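import Groth.Agent.DelIll.K905.SheafKos
import Mathlib.Topology.Sheaves.LocallySurjective

/-!
# Morphisms of abelian sheaves, and an identification of a homology sheaf, from data on a basis
-/

set_option autoImplicit false
universe u

open CategoryTheory CategoryTheory.Limits Opposite TopologicalSpace

namespace K173.BasisIso

variable {T : Type u} [TopologicalSpace T]

/-- abelian sheaves on `T` -/
abbrev Sh (T : Type u) [TopologicalSpace T] := Sheaf (Opens.grothendieckTopology T) AddCommGrpCat.{u}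

variable {𝓑 : Set (Opens T)} (hB : ∀ (U : Opens T) (x : T), x ∈ U → ∃ V ∈ 𝓑, x ∈ V ∧ V ≤ U)

section hom

variable {F G : Sh T} (c : ∀ V : 𝓑, F.obj.obj (op V.1) →+ G.obj.obj (op V.1))
  (nat : ∀ (V W : 𝓑) (f : W.1 ⟶ V.1) (x : F.obj.obj (op V.1)), c W (F.obj.map f.op x) = G.obj.map f.op (c V x))

/-- The morphism extending data on a basis. -/
noncomputable def hom : F ⟶ G :=
  ⟨TopCat.Sheaf.restrictHomEquivHom (X := TopCat.of T) F.obj G (K905.SheafKos.isBasis hB)
    { app := fun V => AddCommGrpCat.ofHom (c V.unop)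
      naturality := fun V W f => by
        ext z
        exact nat V.unop W.unop f.unop.hom z }⟩

theorem hom_app (V : 𝓑) (x : F.obj.obj (op V.1)) : (hom hB c nat).hom.app (op V.1) x = c V x := by
  have := TopCat.Sheaf.extend_hom_app (X := TopCat.of T) F.obj G (K905.SheafKos.isBasis hB)
    { app := fun V => AddCommGrpCat.ofHom (c V.unop)
      naturality := fun V W f => by
        ext z
        exact nat V.unop W.unop f.unop.hom z } V
  exact ConcreteCategory.congr_hom this x

include hB in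
theorem hom_ext {f g : F ⟶ G} (h : ∀ V ∈ 𝓑, ∀ x : F.obj.obj (op V), f.hom.app (op V) x = g.hom.app (op V) x) :
    f = g := by
  apply Sheaf.hom_ext
  refine TopCat.Sheaf.hom_ext (X := TopCat.of T) F.obj G (K905.SheafKos.isBasis hB) fun V => ?_
  ext x
  exact h V.1 V.2 x

include hB in
theorem isIso_of_basis {f : F ⟶ G} (h : ∀ V ∈ 𝓑, Function.Bijective (f.hom.app (op V))) : IsIso f := by
  refine TopCat.Sheaf.isIso_iff_isIso_basis (X := TopCat.of T) (K905.SheafKos.isBasis hB) (φ := f) fun V => ?_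
  exact (ConcreteCategory.isIso_iff_bijective _).2 (h V.1 V.2)

include hB in
theorem epi_of_basis {f : F ⟶ G} (h : ∀ V ∈ 𝓑, Function.Surjective (f.hom.app (op V))) : Epi f := by
  constructor
  intro Z a b hab
  refine hom_ext hB fun V hV y => ?_
  obtain ⟨x, rfl⟩ := h V hV y
  exact congr($(hab).hom.app (op V) x)

/-- a section vanishing locally vanishes -/
theorem eq_zero_of_locally (F : Sh T) (U : Opens T) (s : F.obj.obj (op U))
    (h : ∀ x ∈ U, ∃ (V : Opens T) (f : V ⟶ U), x ∈ V ∧ F.obj.map f.op s = 0) : s = 0 := by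
  choose V f hx hs using fun x : U => h x.1 x.2
  refine TopCat.Sheaf.eq_of_locally_eq' (X := TopCat.of T) F V U f ?_ s 0 fun i => ?_
  · intro x hxU
    exact Opens.mem_iSup.2 ⟨⟨x, hxU⟩, hx ⟨x, hxU⟩⟩
  · rw [hs]
    exact (map_zero (F.obj.map (f i).op).hom).symm

/-- an epimorphism is locally surjective -/
theorem exists_locally_of_epi (f : F ⟶ G) [hf : Epi f] (U : Opens T) (y : G.obj.obj (op U)) (x : T) (hx : x ∈ U) :
    ∃ (V : Opens T) (i : V ⟶ U) (z : F.obj.obj (op V)), x ∈ V ∧ f.hom.app (op V) z = G.obj.map i.op y := by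
  have h1 : TopCat.Presheaf.IsLocallySurjective (X := TopCat.of T) f.hom :=
    (TopCat.Sheaf.isLocallySurjective_iff_epi (X := TopCat.of T) f).2 hf
  obtain ⟨V, i, ⟨z, hz⟩, hxV⟩ := (TopCat.Presheaf.isLocallySurjective_iff (X := TopCat.of T) f.hom).1 h1 U y x hx
  exact ⟨V, homOfLE i, z, hxV, hz⟩

/-- a monomorphism is injective on sections -/
theorem injective_of_mono (f : F ⟶ G) [Mono f] (U : Opens T) : Function.Injective (f.hom.app (op U)) := by
  have h1 : Mono f.hom := (sheafToPresheaf (Opens.grothendieckTopology T) AddCommGrpCat.{u}).map_mono f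
  have h2 : Mono (f.hom.app (op U)) := inferInstance
  exact (AddCommGrpCat.mono_iff_injective _).1 h2

/-- exactness on sections -/
theorem exists_of_kernel (S : ShortComplex (Sh T)) (U : Opens T) (y : S.X₂.obj.obj (op U))
    (hy : S.g.hom.app (op U) y = 0) : ∃ z : S.cycles.obj.obj (op U), S.iCycles.hom.app (op U) z = y := by
  let Φ : Sh T ⥤ AddCommGrpCat.{u} :=
    sheafToPresheaf (Opens.grothendieckTopology T) AddCommGrpCat.{u} ⋙ (evaluation _ _).obj (op U)
  have : PreservesLimitsOfShape WalkingParallelPair Φ := inferInstance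
  let S' : ShortComplex (Sh T) := ShortComplex.mk S.iCycles S.g S.iCycles_g
  have h1 : S'.Exact := S'.exact_of_f_is_kernel S.cyclesIsKernel
  have h2 : Mono S'.f := (inferInstance : Mono S.iCycles)
  have h3 : (S'.map Φ).Exact := h1.map_of_mono_of_preservesKernel Φ h2 inferInstance
  rw [ShortComplex.ab_exact_iff] at h3
  exact h3 y hy

end hom

section homology

variable (S : ShortComplex (Sh T)) (F : Sh T)

/-- Data of a retraction of the cycles onto `F` with kernel the boundaries, on the members of a basis. -/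
structure Dat (𝓑 : Set (Opens T)) where
  /-- the maps -/
  c : ∀ V : 𝓑, S.X₂.obj.obj (op V.1) →+ F.obj.obj (op V.1)
  nat : ∀ (V W : 𝓑) (f : W.1 ⟶ V.1) (x : S.X₂.obj.obj (op V.1)), S.g.hom.app (op V.1) x = 0 →
    c W (S.X₂.obj.map f.op x) = F.obj.map f.op (c V x)
  surj : ∀ (V : 𝓑) (y : F.obj.obj (op V.1)), ∃ x, S.g.hom.app (op V.1) x = 0 ∧ c V x = y
  inj : ∀ (V : 𝓑) (x : S.X₂.obj.obj (op V.1)), S.g.hom.app (op V.1) x = 0 → c V x = 0 →
    ∃ w, S.f.hom.app (op V.1) w = x
  zero : ∀ (V : 𝓑) (w : S.X₁.obj.obj (op V.1)), c V (S.f.hom.app (op V.1) w) = 0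

variable {S F} (D : Dat S F 𝓑)

/-- The morphism on cycles. -/
noncomputable def cyc : S.cycles ⟶ F :=
  hom hB (fun V => (D.c V).comp (S.iCycles.hom.app (op V.1)).hom) (fun V W f x => by
    have h1 := ConcreteCategory.congr_hom (S.iCycles.hom.naturality f.op) x
    have h2 : S.g.hom.app (op V.1) (S.iCycles.hom.app (op V.1) x) = 0 :=
      congr($(S.iCycles_g).hom.app (op V.1) x)
    refine Eq.trans ?_ (D.nat V W f _ h2)
    exact congrArg (D.c W) h1)

theorem cyc_app (V : 𝓑) (z : S.cycles.obj.obj (op V.1)) :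
    (cyc hB D).hom.app (op V.1) z = D.c V (S.iCycles.hom.app (op V.1) z) := hom_app hB _ _ V z

theorem toCycles_cyc : S.toCycles ≫ cyc hB D = 0 := by
  refine hom_ext hB fun V hV w => ?_
  refine (cyc_app hB D ⟨V, hV⟩ (S.toCycles.hom.app (op V) w)).trans ?_
  have h1 : S.iCycles.hom.app (op V) (S.toCycles.hom.app (op V) w) = S.f.hom.app (op V) w :=
    congr($(S.toCycles_i).hom.app (op V) w)
  exact (congrArg (D.c ⟨V, hV⟩) h1).trans (D.zero ⟨V, hV⟩ w)

/-- The morphism on homology. -/
noncomputable def bar : S.homology ⟶ F := S.descHomology (cyc hB D) (toCycles_cyc hB D)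

theorem π_bar : S.homologyπ ≫ bar hB D = cyc hB D := S.π_descHomology _ _

theorem surj_cyc (V : Opens T) (hV : V ∈ 𝓑) : Function.Surjective ((cyc hB D).hom.app (op V)) := by
  intro y
  obtain ⟨x, hx, rfl⟩ := D.surj ⟨V, hV⟩ y
  obtain ⟨z, rfl⟩ := exists_of_kernel S V x hx
  exact ⟨z, cyc_app hB D ⟨V, hV⟩ z⟩

theorem epi_cyc : Epi (cyc hB D) := epi_of_basis hB fun V hV => surj_cyc hB D V hV

theorem exists_of_cyc_eq_zero (V : Opens T) (hV : V ∈ 𝓑) (z : S.cycles.obj.obj (op V))
    (hz : (cyc hB D).hom.app (op V) z = 0) : ∃ w, S.toCycles.hom.app (op V) w = z := by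
  have h1 : S.g.hom.app (op V) (S.iCycles.hom.app (op V) z) = 0 := congr($(S.iCycles_g).hom.app (op V) z)
  obtain ⟨w, hw⟩ := D.inj ⟨V, hV⟩ _ h1 ((cyc_app hB D ⟨V, hV⟩ z).symm.trans hz)
  refine ⟨w, injective_of_mono S.iCycles V ?_⟩
  refine Eq.trans ?_ hw
  exact congr($(S.toCycles_i).hom.app (op V) w)

theorem isIso_bar : IsIso (bar hB D) := by
  have h1 := epi_cyc hB D
  have h2 : Epi (bar hB D) := by
    have : Epi (S.homologyπ ≫ bar hB D) := by rw [π_bar]; exact h1
    exact epi_of_epi S.homologyπ (bar hB D)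
  have h3 : Mono (bar hB D) := by
    refine Preadditive.mono_of_cancel_zero _ fun {Z} g hg => ?_
    refine hom_ext hB fun U hU z => ?_
    refine eq_zero_of_locally _ _ _ fun x hx => ?_
    obtain ⟨V, i, y, hxV, hy⟩ := exists_locally_of_epi S.homologyπ U (g.hom.app (op U) z) x hx
    obtain ⟨W, hW, hxW, hWV⟩ := hB V x hxV
    refine ⟨W, homOfLE hWV ≫ i, hxW, ?_⟩
    -- restrict to `W`
    have e1 : S.homologyπ.hom.app (op W) (S.cycles.obj.map (homOfLE hWV).op y) =
        S.homology.obj.map (homOfLE hWV ≫ i).op (g.hom.app (op U) z) := by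
      have := ConcreteCategory.congr_hom (S.homologyπ.hom.naturality (homOfLE hWV).op) y
      refine this.trans ?_
      rw [op_comp, Functor.map_comp]
      exact congrArg (S.homology.obj.map (homOfLE hWV).op) hy
    have e2 : (cyc hB D).hom.app (op W) (S.cycles.obj.map (homOfLE hWV).op y) = 0 := by
      have e3 : (cyc hB D).hom.app (op W) (S.cycles.obj.map (homOfLE hWV).op y) =
        (bar hB D).hom.app (op W) (S.homologyπ.hom.app (op W) (S.cycles.obj.map (homOfLE hWV).op y)) :=
        congr($((π_bar hB D).symm).hom.app (op W) (S.cycles.obj.map (homOfLE hWV).op y))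
      rw [e3, e1]
      have e4 := ConcreteCategory.congr_hom ((g ≫ bar hB D).hom.naturality (homOfLE hWV ≫ i).op) z
      have e5 : (g ≫ bar hB D).hom.app (op W) (Z.obj.map (homOfLE hWV ≫ i).op z) = 0 :=
        congr($(hg).hom.app (op W) (Z.obj.map (homOfLE hWV ≫ i).op z))
      have e6 := ConcreteCategory.congr_hom (g.hom.naturality (homOfLE hWV ≫ i).op) z
      refine Eq.trans ?_ e5
      exact congrArg ((bar hB D).hom.app (op W)) e6.symm
    obtain ⟨w, hw⟩ := exists_of_cyc_eq_zero hB D W hW _ e2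
    rw [← e1, ← hw]
    exact congr($(S.toCycles_comp_homologyπ).hom.app (op W) w)
  exact isIso_of_mono_of_epi _

/-- The identification. -/
noncomputable def iso : S.homology ≅ F :=
  have := isIso_bar hB D
  asIso (bar hB D)

theorem π_iso_hom : S.homologyπ ≫ (iso hB D).hom = cyc hB D := π_bar hB D

end homology

end K173.BasisIso
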