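import Groth.Agent.DelIll.K905.MkChart

/-!
# The Cartier operator on a chart: independence of the chart and compatibility with restriction

`Rel δ d y z`: `y` is a closed form with image `z` under the Cartier operator.
-/

set_option autoImplicit false
set_option linter.unusedSectionVars false

open ExteriorAlgebra K904 K905.TotM K905.TotPhi Module

namespace K173.CarOp

variable {p : ℕ} [hp : Fact p.Prime] {A L J : Type*} [CommRing A] [CharP A p] [PZ p A] [AddCommGroup L] [Module A L]
  [LinearOrder J] [Fintype J] {δ : A →+ L} {x : J → A} {e : Basis J A L}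

variable (p A) in
/-- the module of symbols -/
abbrev TA : Type _ := TM p (RingHom.id A)

/-- projection -/
noncomputable abbrev πA (hδ : ∀ a b, δ (a * b) = a • δ b + b • δ a) : TA p A →ₗ[A] L :=
  K905.TotSplit.π p (RingHom.id A) δ hδ

/-- Frobenius semilinear homomorphism -/
noncomputable abbrev FA (hδ : ∀ a b, δ (a * b) = a • δ b + b • δ a) : ExteriorAlgebra A (TA p A) →+* ExteriorAlgebra A L :=
  FF p (RingHom.id A) δ hδ

/-- `y` is a closed form with image `z` under the Cartier operator. -/
def Rel (p : ℕ) [Fact p.Prime] [PZ p A] (hδ : ∀ a b, δ (a * b) = a • δ b + b • δ a)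
    (d : ExteriorAlgebra A L →+ ExteriorAlgebra A L)
    (y z : ExteriorAlgebra A L) : Prop :=
  ∃ (ω : ExteriorAlgebra A (TA p A)) (η : ExteriorAlgebra A L),
    y = FA hδ ω + d η ∧ z = ExteriorAlgebra.map (πA hδ) ω

section chart

variable (h : LocalCartier.LogChart p (fun _ : J => False) x δ e)
include h

theorem isDR : IsDR δ (LocalCartier.d δ e) :=
  ⟨h.leib, fun b => DR.d_algebraMap h b, fun x y => DR.d_mul h x y, fun b => by rw [← DR.d_algebraMap h, DR.d_d h]⟩

variable (p x e) in
/-- the section -/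
noncomputable def σA : L →ₗ[A] TA p A := e.constr A (fun j => br p (RingHom.id A) (x j))

omit [CharP A p] h in
theorem σA_e (j : J) : σA p x e (e j) = br p (RingHom.id A) (x j) := e.constr_basis A _ j

theorem π_σ (m : L) : πA h.leib (σA p x e m) = m := by
  have : (πA h.leib).comp (σA p x e) = LinearMap.id := by
    refine e.ext fun j => ?_
    rw [LinearMap.comp_apply, σA_e, K905.TotSplit.π_br, LinearMap.id_apply]
    exact h.plain j not_false
  exact LinearMap.congr_fun this m

theorem sub_mem (m : TA p A) : m - σA p x e (πA h.leib m) ∈ LinearMap.range (io p (RingHom.id A)) := by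
  let D : A →+ K905.TotSplit.Qt p (RingHom.id A) := AddMonoidHom.mk'
    (fun a => Submodule.Quotient.mk (br p (RingHom.id A) a)) (fun a b => by
      refine (Submodule.Quotient.eq _).2 ?_
      change br p (RingHom.id A) (a + b) - (br p (RingHom.id A) a + br p (RingHom.id A) b) ∈ _
      rw [br_add, add_sub_cancel_left]
      exact ⟨_, rfl⟩)
  have hD : ∀ a b, D (a * b) = a • D b + b • D a := by
    intro a b
    change Submodule.Quotient.mk (br p (RingHom.id A) (a * b)) = a • Submodule.Quotient.mk (br p (RingHom.id A) b) +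
      b • Submodule.Quotient.mk (br p (RingHom.id A) a)
    rw [br_mul]
    rfl
  let T : L →ₗ[A] K905.TotSplit.Qt p (RingHom.id A) :=
    (Submodule.mkQ (LinearMap.range (io p (RingHom.id A)))).comp (σA p x e)
  have hT : ∀ a, T (δ a) = D a := by
    intro a
    refine K905.MkChart.der_ext h.pbasis (T.toAddMonoidHom.comp δ) D (fun a b => ?_) hD (fun j => ?_) a
    · change T (δ (a * b)) = a • T (δ b) + b • T (δ a)
      rw [h.leib, map_add, map_smul, map_smul]
    · change T (δ (x j)) = _
      rw [h.plain j not_false, LinearMap.comp_apply, σA_e]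
      rfl
  induction m using K905.TotM.induction with
  | h1 c a =>
    rw [map_smul, map_smul, ← smul_sub]
    refine Submodule.smul_mem _ _ ?_
    rw [K905.TotSplit.π_br]
    exact (Submodule.Quotient.eq _).1 (hT a).symm
  | h2 s => rw [K905.TotSplit.π_io, map_zero, sub_zero]; exact ⟨s, rfl⟩
  | hadd m m' hx hy =>
    have : m + m' - σA p x e (πA h.leib (m + m')) =
        (m - σA p x e (πA h.leib m)) + (m' - σA p x e (πA h.leib m')) := by rw [map_add, map_add]; abel
    rw [this]
    exact Submodule.add_mem _ hx hy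

theorem sg_FA (ω : ExteriorAlgebra A (TA p A)) : Iso.sg (FA h.leib ω) = FA h.leib (Iso.sg ω) :=
  (DR.extR_sg _ _ _ ω).symm

/-- `FF ω` and `FF (σ π ω)` differ by an exact form. -/
theorem exists_sub (ω : ExteriorAlgebra A (TA p A)) : ∃ η, FA h.leib ω -
    FA h.leib (ExteriorAlgebra.map (σA p x e) (ExteriorAlgebra.map (πA h.leib) ω)) = LocalCartier.d δ e η := by
  have hd := isDR h
  induction ω using ExteriorAlgebra.induction with
  | algebraMap a => exact ⟨0, by rw [AlgHom.commutes, AlgHom.commutes, sub_self, map_zero]⟩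
  | ι m =>
    obtain ⟨s, hs⟩ := sub_mem h m
    obtain ⟨s, rfl⟩ := (toFr p A).surjective s
    refine ⟨algebraMap A _ s, ?_⟩
    rw [ExteriorAlgebra.map_apply_ι, ExteriorAlgebra.map_apply_ι, ← map_sub, ← map_sub, ← hs, FF_ι, φ_io, δF_toFr,
      hd.alg]
  | add a b ha hb =>
    obtain ⟨η, hη⟩ := ha
    obtain ⟨ζ, hζ⟩ := hb
    refine ⟨η + ζ, ?_⟩
    rw [map_add (LocalCartier.d δ e), ← hη, ← hζ]
    simp only [map_add]
    abel
  | mul a b ha hb =>
    obtain ⟨η, hη⟩ := ha
    obtain ⟨ζ, hζ⟩ := hb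
    let a' := ExteriorAlgebra.map (σA p x e) (ExteriorAlgebra.map (πA h.leib) a)
    let b' := ExteriorAlgebra.map (σA p x e) (ExteriorAlgebra.map (πA h.leib) b)
    refine ⟨η * FA h.leib b + Iso.sg (FA h.leib a') * ζ, ?_⟩
    have h1 : LocalCartier.d δ e (η * FA h.leib b) = LocalCartier.d δ e η * FA h.leib b := by
      rw [hd.mul, d_FF p (RingHom.id A) δ hd, mul_zero, add_zero]
    have h2 : LocalCartier.d δ e (Iso.sg (FA h.leib a') * ζ) = FA h.leib a' * LocalCartier.d δ e ζ := by
      rw [hd.mul, sg_FA h, d_FF p (RingHom.id A) δ hd, zero_mul, zero_add, sg_FA h]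
      congr 2
      exact CliffordAlgebra.involute_involute a'
    rw [map_add (LocalCartier.d δ e), h1, h2, ← hη, ← hζ, map_mul, map_mul, map_mul, map_mul]
    change FA h.leib a * FA h.leib b - FA h.leib a' * FA h.leib b' = (FA h.leib a - FA h.leib a') * FA h.leib b +
      FA h.leib a' * (FA h.leib b - FA h.leib b')
    noncomm_ring

theorem FA_σ (y : ExteriorAlgebra A L) :
    FA h.leib (ExteriorAlgebra.map (σA p x e) y) =
      LocalCartier.cb p (fun _ : J => False) x e 0 y := by
  have h0 : LocalCartier.mon x (0 : J → ℕ) = 1 := by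
    rw [LocalCartier.mon]
    simp
  rw [LocalCartier.cb_apply, h0, one_smul]
  have : (FA h.leib).comp (ExteriorAlgebra.map (σA p x e)).toRingHom =
      LocalCartier.c0 p (fun _ : J => False) x e := by
    refine Semi.ringHom_ext (fun a => ?_) (fun m => ?_)
    · change FA h.leib (ExteriorAlgebra.map (σA p x e) (algebraMap A _ a)) = _
      rw [AlgHom.commutes, FF_algebraMap, LocalCartier.c0, Semi.extR_algebraMap]
      rfl
    · change FA h.leib (ExteriorAlgebra.map (σA p x e) (ι A m)) = _
      rw [ExteriorAlgebra.map_apply_ι, FF_ι, LocalCartier.c0, Semi.extR_ι]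
      congr 1
      conv_lhs => rw [← e.sum_repr m, map_sum, map_sum]
      change _ = ∑ j, _
      refine Finset.sum_congr rfl fun j _ => ?_
      rw [map_smul, φ_smul, σA_e, φ_br, if_neg not_false, RingHom.id_apply, h.plain j not_false]
      rfl
  exact RingHom.congr_fun this y

theorem map_π_σ (y : ExteriorAlgebra A L) :
    ExteriorAlgebra.map (πA h.leib) (ExteriorAlgebra.map (σA p x e) y) = y := by
  have : (ExteriorAlgebra.map (πA h.leib)).comp (ExteriorAlgebra.map (σA p x e)) = AlgHom.id A _ := by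
    rw [ExteriorAlgebra.map_comp_map]
    have h2 : (πA h.leib).comp (σA p x e) = LinearMap.id := LinearMap.ext (π_σ h)
    rw [h2, ExteriorAlgebra.map_id]
  exact DFunLike.congr_fun this y

/-- **The Cartier operator on a chart.** -/
theorem exists_r : ∃ r : ExteriorAlgebra A L →+ ExteriorAlgebra A L,
    (∀ y, LocalCartier.d δ e y = 0 → Rel p h.leib (LocalCartier.d δ e) y (r y)) ∧
    (∀ y z, Rel p h.leib (LocalCartier.d δ e) y z → r y = z) ∧
    (∀ y, r (LocalCartier.d δ e y) = 0) ∧
    (∀ (b : A) y, r (b ^ p • y) = b • r y) ∧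
    (∀ n, ∀ y ∈ ⋀[A]^n L, r y ∈ ⋀[A]^n L) ∧
    (∀ n, ∀ y ∈ ⋀[A]^n L, ∃ z ∈ ⋀[A]^n L, LocalCartier.d δ e z = 0 ∧ r z = y) ∧
    (∀ n, ∀ y ∈ ⋀[A]^(n + 1) L, LocalCartier.d δ e y = 0 → r y = 0 → ∃ w ∈ ⋀[A]^n L, LocalCartier.d δ e w = y) ∧
    (∀ y ∈ ⋀[A]^0 L, LocalCartier.d δ e y = 0 → r y = 0 → y = 0) := by
  have hd := isDR h
  obtain ⟨H, r, h1, h2, h3, h4, -, h6, h7, h8, h9⟩ := LocalCartier.main h (pole := 0)
    (fun _ => hp.1.pos) (fun _ _ => rfl)
  have hdb : ∀ y, LocalCartier.db δ e 0 y = LocalCartier.d δ e y := by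
    intro y
    rw [LocalCartier.db_apply]
    simp
  simp only [hdb] at h1 h3 h4
  have hcl : ∀ y, LocalCartier.d δ e y = 0 → y = LocalCartier.cb p (fun _ : J => False) x e 0 (r y) +
      LocalCartier.d δ e (H y) := by
    intro y hy
    have h10 := h1 y
    rw [hy, map_zero, add_zero] at h10
    rw [h10]
    abel
  refine ⟨r, fun y hy => ⟨ExteriorAlgebra.map (σA p x e) (r y), H y, ?_, ?_⟩, ?_, h3, h6, h9, fun n y hy => ?_,
    fun n y hy hdy hry => ?_, fun y hy hdy hry => ?_⟩
  · rw [FA_σ h]
    exact hcl y hy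
  · rw [map_π_σ h]
  · rintro y z ⟨ω, η, rfl, rfl⟩
    obtain ⟨ζ, hζ⟩ := exists_sub h ω
    rw [map_add, h3, add_zero, ← sub_add_cancel (FA h.leib ω)
      (FA h.leib (ExteriorAlgebra.map (σA p x e) (ExteriorAlgebra.map (πA h.leib) ω))), hζ, map_add, h3, zero_add,
      FA_σ h, h2]
  · refine ⟨LocalCartier.cb p (fun _ : J => False) x e 0 y, ?_, h4 y, h2 y⟩
    rw [LocalCartier.cb_apply]
    exact Submodule.smul_mem _ _ (Semi.extR_mem _ _ _ n y hy)
  · refine ⟨H y, h7 n y hy, ?_⟩
    have := hcl y hdy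
    rw [hry, map_zero, zero_add] at this
    exact this.symm
  · have := hcl y hdy
    rw [hry, map_zero, zero_add, h8 y hy, map_zero] at this
    exact this

end chart

section restrict

variable {B L' J' : Type*} [CommRing B] [CharP B p] [PZ p B] [AddCommGroup L'] [Module B L']
  [LinearOrder J'] [Fintype J'] {δ' : B →+ L'} {x' : J' → B} {e' : Basis J' B L'}

/-- **Compatibility with restriction.** -/
theorem Rel.restrict (h : LocalCartier.LogChart p (fun _ : J => False) x δ e)
    (h' : LocalCartier.LogChart p (fun _ : J' => False) x' δ' e') (ρ : A →+* B) (g : L →+ L')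
    (hg : ∀ (b : A) (v : L), g (b • v) = ρ b • g v) (hgδ : ∀ b, g (δ b) = δ' (ρ b))
    {y z : ExteriorAlgebra A L} (hyz : Rel p h.leib (LocalCartier.d δ e) y z) :
    Rel p h'.leib (LocalCartier.d δ' e') (Semi.extR ρ g hg y) (Semi.extR ρ g hg z) := by
  obtain ⟨ω, η, rfl, rfl⟩ := hyz
  refine ⟨Semi.extR ρ (mapM p (RingHom.id A) (RingHom.id B) ρ ρ (fun _ => rfl)).toAddMonoidHom
    (mapM_smul p (RingHom.id A) (RingHom.id B) ρ ρ (fun _ => rfl)) ω, Semi.extR ρ g hg η, ?_, ?_⟩
  · rw [map_add]
    congr 1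
    · have h : (Semi.extR ρ g hg).comp (FA h.leib) = (FA h'.leib).comp
          (Semi.extR ρ (mapM p (RingHom.id A) (RingHom.id B) ρ ρ (fun _ => rfl)).toAddMonoidHom
            (mapM_smul p (RingHom.id A) (RingHom.id B) ρ ρ (fun _ => rfl))) := by
        refine Semi.ringHom_ext (fun a => ?_) (fun m => ?_)
        · rw [RingHom.comp_apply, RingHom.comp_apply, FF_algebraMap, Semi.extR_algebraMap, Semi.extR_algebraMap,
            FF_algebraMap, map_pow]
        · rw [RingHom.comp_apply, RingHom.comp_apply, FF_ι, Semi.extR_ι, Semi.extR_ι, FF_ι,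
            extR_φ p (RingHom.id A) δ h.leib (RingHom.id B) ρ ρ (fun _ => rfl) δ' h'.leib g hg hgδ]
          rfl
      exact RingHom.congr_fun h ω
    · exact DR.extR_d h h' ρ g hg hgδ (fun _ hj => hj.elim) η
  · have h : (Semi.extR ρ g hg).comp (ExteriorAlgebra.map (πA h.leib)).toRingHom =
        ((ExteriorAlgebra.map (πA h'.leib)).toRingHom).comp
          (Semi.extR ρ (mapM p (RingHom.id A) (RingHom.id B) ρ ρ (fun _ => rfl)).toAddMonoidHom
            (mapM_smul p (RingHom.id A) (RingHom.id B) ρ ρ (fun _ => rfl))) := by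
      refine Semi.ringHom_ext (fun a => ?_) (fun m => ?_)
      · change Semi.extR ρ g hg (ExteriorAlgebra.map (πA h.leib) (algebraMap A _ a)) =
          ExteriorAlgebra.map (πA h'.leib) (Semi.extR ρ _ _ (algebraMap A _ a))
        rw [AlgHom.commutes, Semi.extR_algebraMap, Semi.extR_algebraMap, AlgHom.commutes]
      · change Semi.extR ρ g hg (ExteriorAlgebra.map (πA h.leib) (ι A m)) =
          ExteriorAlgebra.map (πA h'.leib) (Semi.extR ρ _ _ (ι A m))
        rw [ExteriorAlgebra.map_apply_ι, Semi.extR_ι, Semi.extR_ι, ExteriorAlgebra.map_apply_ι]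
        congr 1
        refine K905.TotM.hom_ext p (RingHom.id A) (f := g.comp (πA h.leib).toAddMonoidHom)
          (g := (πA h'.leib).toAddMonoidHom.comp
            (mapM p (RingHom.id A) (RingHom.id B) ρ ρ (fun _ => rfl)).toAddMonoidHom) ρ
          (fun c m => ?_) (fun c m => ?_) (fun a => ?_) (fun s => ?_) m
        · change g (πA h.leib (c • m)) = ρ c • g (πA h.leib m)
          rw [map_smul, hg]
        · change πA h'.leib (mapM p (RingHom.id A) (RingHom.id B) ρ ρ (fun _ => rfl) (c • m)) =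
            ρ c • πA h'.leib (mapM p (RingHom.id A) (RingHom.id B) ρ ρ (fun _ => rfl) m)
          rw [mapM_smul, map_smul]
        · change g (πA h.leib (br p (RingHom.id A) a)) =
            πA h'.leib (mapM p (RingHom.id A) (RingHom.id B) ρ ρ (fun _ => rfl) (br p (RingHom.id A) a))
          rw [mapM_br, K905.TotSplit.π_br, K905.TotSplit.π_br, hgδ]
          rfl
        · change g (πA h.leib (io p (RingHom.id A) s)) =
            πA h'.leib (mapM p (RingHom.id A) (RingHom.id B) ρ ρ (fun _ => rfl) (io p (RingHom.id A) s))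
          rw [mapM_io, K905.TotSplit.π_io, K905.TotSplit.π_io, map_zero]
    exact RingHom.congr_fun h ω

end restrict

end K173.CarOp
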