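import Groth.Agent.DelIll.K173.Split
import Groth.Agent.DelIll.K905.HTAbs
import Mathlib.FieldTheory.Perfect
import Mathlib.LinearAlgebra.Dimension.Basic

/-!
# Dimension count along the canonical filtration

`HR T Z ρ n`: the group `Hom(T, Z⟦n⟧)` as a module over a ring acting on `Z` through `ρ`.
-/

set_option autoImplicit false
universe w v u
open CategoryTheory CategoryTheory.Limits CategoryTheory.Pretriangulated DerivedCategory

namespace K173.Count

open Groth.Agent.Sga4B.DTrunc DerivedCategory.TStructure K173.Split K905.HTFin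

section HR

variable {C : Type*} [Category C] [Preadditive C] [HasShift C ℤ] [∀ n : ℤ, (shiftFunctor C n).Additive]
  {k : Type*} [Ring k]

/-- `Hom(T, Z⟦n⟧)` with the action of `k` through `ρ`. -/
def HR (T Z : C) (_ρ : k →+* End Z) (n : ℤ) : Type _ := T ⟶ Z⟦n⟧

variable (T : C) {Z Z' : C} (ρ : k →+* End Z) (ρ' : k →+* End Z') (n : ℤ)

instance : AddCommGroup (HR T Z ρ n) := inferInstanceAs (AddCommGroup (T ⟶ Z⟦n⟧))

/-- the identity -/
def HR.out {T : C} {ρ : k →+* End Z} {n : ℤ} : HR T Z ρ n ≃+ (T ⟶ Z⟦n⟧) := AddEquiv.refl _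

instance : Module k (HR T Z ρ n) where
  smul a x := HR.out.symm (pf n (ρ a : Z ⟶ Z) (HR.out x))
  one_smul x := by
    change pf n (ρ 1 : Z ⟶ Z) (HR.out x) = HR.out x
    rw [map_one]
    change HR.out x ≫ (𝟙 Z)⟦n⟧' = HR.out x
    simp
  mul_smul a b x := by
    change pf n (ρ (a * b) : Z ⟶ Z) (HR.out x) = pf n (ρ a : Z ⟶ Z) (pf n (ρ b : Z ⟶ Z) (HR.out x))
    rw [← pf_comp, map_mul]
    rfl
  smul_zero a := by
    change (0 : T ⟶ Z⟦n⟧) ≫ _ = 0
    exact zero_comp
  smul_add a x y := by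
    change (HR.out x + HR.out y) ≫ (ρ a : Z ⟶ Z)⟦n⟧' = HR.out x ≫ (ρ a : Z ⟶ Z)⟦n⟧' + HR.out y ≫ (ρ a : Z ⟶ Z)⟦n⟧'
    exact Preadditive.add_comp _ _ _ _ _ _
  add_smul a b x := by
    change HR.out x ≫ (ρ (a + b) : Z ⟶ Z)⟦n⟧' = HR.out x ≫ (ρ a : Z ⟶ Z)⟦n⟧' + HR.out x ≫ (ρ b : Z ⟶ Z)⟦n⟧'
    rw [map_add, ← Preadditive.comp_add, ← Functor.map_add]
  zero_smul x := by
    change HR.out x ≫ (ρ 0 : Z ⟶ Z)⟦n⟧' = 0
    rw [map_zero]
    change HR.out x ≫ (0 : Z ⟶ Z)⟦n⟧' = 0
    rw [Functor.map_zero, comp_zero]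

theorem smul_out (a : k) (x : HR T Z ρ n) : HR.out (a • x) = pf n (ρ a : Z ⟶ Z) (HR.out x) := rfl

variable {ρ ρ'} in
/-- The linear map given by an equivariant morphism. -/
noncomputable def HR.map (f : Z ⟶ Z') (h : ∀ a, (ρ a : Z ⟶ Z) ≫ f = f ≫ (ρ' a : Z' ⟶ Z')) :
    HR T Z ρ n →ₗ[k] HR T Z' ρ' n where
  toFun x := HR.out.symm (pf n f (HR.out x))
  map_add' x y := Preadditive.add_comp _ _ _ (HR.out x) (HR.out y) (f⟦n⟧')
  map_smul' a x := by
    change pf n f (pf n (ρ a : Z ⟶ Z) (HR.out x)) = pf n (ρ' a : Z' ⟶ Z') (pf n f (HR.out x))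
    rw [← pf_comp, ← pf_comp, h]

variable {ρ ρ'} in
theorem HR.out_map (f : Z ⟶ Z') (h : ∀ a, (ρ a : Z ⟶ Z) ≫ f = f ≫ (ρ' a : Z' ⟶ Z')) (x : HR T Z ρ n) :
    HR.out (HR.map T n f h x) = pf n f (HR.out x) := rfl

/-- A semilinear version. -/
theorem finrank_eq_of_semi {k : Type*} [Field k] (φ : k ≃+* k) {V W : Type w} [AddCommGroup V] [Module k V]
    [AddCommGroup W] [Module k W] (j : V ≃+ W) (h : ∀ a x, j (φ a • x) = a • j x) :
    Module.finrank k V = Module.finrank k W := by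
  have h1 : Module.rank k V = Module.rank k W := by
    refine rank_eq_of_equiv_equiv φ.symm j φ.symm.bijective fun r m => ?_
    rw [← h, RingEquiv.apply_symm_apply]
  rw [Module.finrank, Module.finrank, h1]

theorem finite_of_semi {k : Type*} [Field k] (φ : k ≃+* k) {V W : Type w} [AddCommGroup V] [Module k V]
    [AddCommGroup W] [Module k W] (j : V ≃+ W) (h : ∀ a x, j (φ a • x) = a • j x) [Module.Finite k W] :
    Module.Finite k V := by
  have h1 : Module.rank k V = Module.rank k W := by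
    refine rank_eq_of_equiv_equiv φ.symm j φ.symm.bijective fun r m => ?_
    rw [← h, RingEquiv.apply_symm_apply]
  rw [← Module.rank_lt_aleph0_iff, h1, Module.rank_lt_aleph0_iff]
  infer_instance

end HR

variable {A : Type u} [Category.{v} A] [Abelian A] [HasDerivedCategory.{w} A] {k : Type*} [Field k]
  (T Y : DerivedCategory A) (ρ : k →+* End Y) (n : ℤ)

/-- The truncation with its action. -/
noncomputable abbrev V (b : ℤ) : Type _ := HR T ((t.truncLE b).obj Y) ((mapEnd (t.truncLE b) Y).comp ρ) n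

/-- `H^b(Y)[-b]` with its action. -/
noncomputable abbrev G (b : ℤ) : Type _ :=
  HR T ((singleFunctor A b).obj ((homologyFunctor A b).obj Y))
    ((mapEnd (homologyFunctor A b ⋙ singleFunctor A b) Y).comp ρ) n

/-- The projection. -/
noncomputable def g (b : ℤ) :
    (t.truncLE b).obj Y ⟶ (singleFunctor A b).obj ((homologyFunctor A b).obj Y) :=
  have : ((t.truncLE b).obj Y).IsLE b := (inferInstance : t.IsLE ((t.truncLE b).obj Y) b)
  π b ((t.truncLE b).obj Y) ≫ (singleFunctor A b).map ((homologyFunctor A b).map ((t.truncLEι b).app Y))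

theorem isIso_g (b : ℤ) : IsIso ((homologyFunctor A b).map (g Y b)) := by
  have : ((t.truncLE b).obj Y).IsLE b := (inferInstance : t.IsLE ((t.truncLE b).obj Y) b)
  rw [g, Functor.map_comp, homology_π]
  infer_instance

theorem g_comm (b : ℤ) (f : Y ⟶ Y) : (t.truncLE b).map f ≫ g Y b =
    g Y b ≫ (singleFunctor A b).map ((homologyFunctor A b).map f) := by
  have : ((t.truncLE b).obj Y).IsLE b := (inferInstance : t.IsLE ((t.truncLE b).obj Y) b)
  rw [g, ← Category.assoc, π_naturality, Category.assoc, Category.assoc, ← Functor.map_comp, ← Functor.map_comp,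
    ← Functor.map_comp, ← Functor.map_comp]
  congr 3
  exact (t.truncLEι b).naturality f

/-- The step of the filtration. -/
theorem step (l b : ℤ) (hlb : l + 1 = b) (hV : Module.Finite k (V T Y ρ n l)) (hG : Module.Finite k (G T Y ρ n b))
    (hs : ∀ m, Function.Surjective (pf (T := T) m (g Y b))) :
    Module.Finite k (V T Y ρ n b) ∧
      Module.finrank k (V T Y ρ n b) = Module.finrank k (V T Y ρ n l) + Module.finrank k (G T Y ρ n b) := by
  have i1 : ((t.truncLE b).obj Y).IsLE b := (inferInstance : t.IsLE ((t.truncLE b).obj Y) b)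
  obtain ⟨δ, hδ⟩ := exists_distinguished_π l b hlb ((t.truncLE b).obj Y)
  have hiso : IsIso ((t.truncLE l).map ((t.truncLEι b).app Y)) := t.isIso_truncLE_map_truncLEι_app l b (by omega) Y
  -- the two isomorphisms
  let θ := (t.truncLE l).map ((t.truncLEι b).app Y)
  let κ := (singleFunctor A b).map ((homologyFunctor A b).map ((t.truncLEι b).app Y))
  have hκ : IsIso κ := by
    have := isIso_homology_map_truncLEι b Y
    infer_instance
  have hg : g Y b = π b ((t.truncLE b).obj Y) ≫ κ := rfl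
  -- equivariance
  have hθ : ∀ a, ((mapEnd (t.truncLE l) Y).comp ρ a : (t.truncLE l).obj Y ⟶ (t.truncLE l).obj Y) ≫
      inv θ ≫ (t.truncLEι l).app ((t.truncLE b).obj Y) =
      (inv θ ≫ (t.truncLEι l).app ((t.truncLE b).obj Y)) ≫
        ((mapEnd (t.truncLE b) Y).comp ρ a : (t.truncLE b).obj Y ⟶ (t.truncLE b).obj Y) := by
    intro a
    rw [← cancel_epi θ, Category.assoc, IsIso.hom_inv_id_assoc]
    change (t.truncLE l).map ((t.truncLEι b).app Y) ≫ (t.truncLE l).map (ρ a : Y ⟶ Y) ≫ _ =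
      (t.truncLEι l).app ((t.truncLE b).obj Y) ≫ (t.truncLE b).map (ρ a : Y ⟶ Y)
    have h1 : (t.truncLE b).map (ρ a : Y ⟶ Y) ≫ (t.truncLEι b).app Y = (t.truncLEι b).app Y ≫ (ρ a : Y ⟶ Y) :=
      (t.truncLEι b).naturality (ρ a : Y ⟶ Y)
    have h2 := (t.truncLEι l).naturality ((t.truncLE b).map (ρ a : Y ⟶ Y))
    refine Eq.trans ?_ h2
    rw [← Category.assoc, ← Functor.map_comp, ← h1, Functor.map_comp, Category.assoc, IsIso.hom_inv_id_assoc]
  let F : V T Y ρ n l →ₗ[k] V T Y ρ n b := HR.map T n (inv θ ≫ (t.truncLEι l).app ((t.truncLE b).obj Y)) hθ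
  let P : V T Y ρ n b →ₗ[k] G T Y ρ n b := HR.map T n (g Y b) (fun a => g_comm Y b (ρ a : Y ⟶ Y))
  have h0 : ∀ x, P (F x) = 0 := by
    intro x
    change pf n (g Y b) (pf n (inv θ ≫ (t.truncLEι l).app ((t.truncLE b).obj Y)) (HR.out x)) = 0
    have h3 : (t.truncLEι l).app ((t.truncLE b).obj Y) ≫ π b ((t.truncLE b).obj Y) = 0 :=
      comp_distTriang_mor_zero₁₂ _ hδ
    rw [← pf_comp, hg, Category.assoc, ← Category.assoc ((t.truncLEι l).app ((t.truncLE b).obj Y)), h3, zero_comp,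
      comp_zero, pf, Functor.map_zero, comp_zero]
  have hex : ∀ x, P x = 0 → ∃ y, F y = x := by
    intro x hx
    have h1 : pf n (π b ((t.truncLE b).obj Y)) (HR.out x) = 0 := by
      apply injective_pf_of_isIso (T := T) n κ
      rw [← pf_comp]
      refine hx.trans ?_
      exact zero_comp.symm
    obtain ⟨y, hy⟩ := K905.HTExact.tri_exact₂ hδ n (HR.out x) h1
    refine ⟨HR.out.symm (pf n θ y), ?_⟩
    change pf n (inv θ ≫ (t.truncLEι l).app ((t.truncLE b).obj Y)) (pf n θ y) = HR.out x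
    rw [← pf_comp, IsIso.hom_inv_id_assoc]
    exact hy
  have hinj : Function.Injective F := by
    rw [injective_iff_map_eq_zero]
    intro x hx
    have h1 : pf n ((t.truncLEι l).app ((t.truncLE b).obj Y)) (pf n (inv θ) (HR.out x)) = 0 := by
      rw [← pf_comp]
      exact hx
    obtain ⟨y, hy⟩ := K905.HTExact.con_exact₁ hδ (n - 1) n (by omega) (pf n (inv θ) (HR.out x)) h1
    obtain ⟨z, hz⟩ := hs (n - 1) (pf (n - 1) κ y)
    have h2 : pf (n - 1) (π b ((t.truncLE b).obj Y)) z = y := by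
      apply injective_pf_of_isIso (T := T) (n - 1) κ
      rw [← pf_comp, ← hg]
      exact hz
    have h3 : pf n (inv θ) (HR.out x) = 0 := by
      rw [← hy, ← h2]
      exact K905.HTExact.con_map hδ (n - 1) n (by omega) z
    have h4 : HR.out x = 0 := by
      apply injective_pf_of_isIso (T := T) n (inv θ)
      rw [h3]
      exact zero_comp.symm
    exact h4
  have hsurj : Function.Surjective P := hs n
  exact ⟨K905.ExactFin.finite_mid F P hex, (K905.ExactFin.finrank_mid_eq_iff F P h0 hex).2 ⟨hinj, hsurj⟩⟩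

/-- **The count.** -/
theorem count [hY : Y.IsGE 0] (d : ℕ) (hG : ∀ i : ℕ, i < d → Module.Finite k (G T Y ρ n i))
    (hs : ∀ i : ℕ, i < d → ∀ m, Function.Surjective (pf (T := T) m (g Y i))) :
    Module.Finite k (V T Y ρ n (d - 1)) ∧
      Module.finrank k (V T Y ρ n (d - 1)) = ∑ i ∈ Finset.range d, Module.finrank k (G T Y ρ n i) := by
  induction d with
  | zero =>
    have hY' : t.IsGE Y 0 := hY
    have h1 : IsZero ((t.truncLE (((0 : ℕ) : ℤ) - 1)).obj Y) :=
      t.isZero_truncLE_obj_of_isGE (((0 : ℕ) : ℤ) - 1) 0 (by norm_num) Y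
    have h2 : IsZero (((t.truncLE (((0 : ℕ) : ℤ) - 1)).obj Y)⟦n⟧) := Functor.map_isZero _ h1
    have h3 : Subsingleton (V T Y ρ n (((0 : ℕ) : ℤ) - 1)) := ⟨fun x y => h2.eq_of_tgt (HR.out x) (HR.out y)⟩
    refine ⟨inferInstance, ?_⟩
    rw [Module.finrank_zero_of_subsingleton, Finset.range_zero, Finset.sum_empty]
  | succ d ih =>
    obtain ⟨i1, i2⟩ := ih (fun i hi => hG i (by omega)) (fun i hi => hs i (by omega))
    have hG' : Module.Finite k (G T Y ρ n ((((d + 1 : ℕ) : ℤ)) - 1)) := by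
      have := hG d (by omega)
      have e : (((d + 1 : ℕ) : ℤ)) - 1 = (d : ℤ) := by push_cast; ring
      rw [e]
      exact this
    have e : (((d + 1 : ℕ) : ℤ)) - 1 = (d : ℤ) := by push_cast; ring
    obtain ⟨s1, s2⟩ := step T Y ρ n ((d : ℤ) - 1) (((d + 1 : ℕ) : ℤ) - 1) (by push_cast; ring) i1 hG' (by
      rw [e]; exact hs d (by omega))
    refine ⟨s1, ?_⟩
    rw [s2, i2, Finset.sum_range_succ, e]

end K173.Count
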