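import Groth.Agent.DelIll.K173.Count
import Groth.Agent.DelIll.K905.DecompCx

/-!
# Degeneration of the stupid filtration from decomposable truncations and a semilinear Cartier isomorphism
-/

set_option autoImplicit false
universe w v u
open CategoryTheory CategoryTheory.Limits CategoryTheory.Pretriangulated DerivedCategory

namespace K173.Degen

open Groth.Agent.Sga4B.DTrunc DerivedCategory.TStructure K173.Split K173.Count K905.HTFin KLinDR E1Deg

variable {A : Type u} [Category.{v} A] [Abelian A] [HasDerivedCategory.{w} A]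

section semi

variable {k : Type*} [Field k] (φ : k ≃+* k) (T : A) (K : CochainComplex A ℤ) (ρ : k →+* End K) (n : ℤ) (i : ℤ)
  (C : K.homology i ≅ K.X i)
  (hC : ∀ a, HomologicalComplex.homologyMap (ρ (φ a) : K ⟶ K) i ≫ C.hom =
    C.hom ≫ HomologicalComplex.Hom.f (A := K) (B := K) (ρ a) i)

omit [Abelian A] [HasDerivedCategory.{w} A] in
theorem abs3 {X X' Y Y' Z Z' : A} {a : X ⟶ X'} {b : Y ⟶ Y'} {c : Z ⟶ Z'} {x : X ⟶ Y} {x' : X' ⟶ Y'} {y : Y ⟶ Z}
    {y' : Y' ⟶ Z'} (h1 : a ≫ x' = x ≫ b) (h2 : b ≫ y' = y ≫ c) : a ≫ x' ≫ y' = (x ≫ y) ≫ c := by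
  rw [← Category.assoc, h1, Category.assoc, h2, Category.assoc]

/-- `F[-i]` as a complex -/
noncomputable def sQ (i : ℤ) (F : A) : (singleFunctor A i).obj F ≅
    Q.obj ((HomologicalComplex.single A (ComplexShape.up ℤ) i).obj F) :=
  (singleFunctorIsoCompQ A i).app F

theorem sQ_naturality (i : ℤ) {F F' : A} (f : F ⟶ F') : (singleFunctor A i).map f ≫ (sQ i F').hom =
    (sQ i F).hom ≫ Q.map ((HomologicalComplex.single A (ComplexShape.up ℤ) i).map f) :=
  (singleFunctorIsoCompQ A i).hom.naturality _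

open K905.Decomp in
theorem hQ_naturality (i : ℤ) {K L : CochainComplex A ℤ} (f : K ⟶ L) : (homologyFunctor A i).map (Q.map f) ≫ (hQ L i).hom =
    (hQ K i).hom ≫ HomologicalComplex.homologyMap f i :=
  (homologyFunctorFactors A i).hom.naturality f

open K905.Decomp in
/-- the identification of `H^i(K)[-i]` with `K^i[-i]` -/
noncomputable def θ : (singleFunctor A i).obj ((homologyFunctor A i).obj (Q.obj K)) ≅
    Q.obj ((HomologicalComplex.single A (ComplexShape.up ℤ) i).obj (K.X i)) :=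
  (singleFunctor A i).mapIso (hQ K i ≪≫ C) ≪≫ sQ i (K.X i)

include hC in
theorem θ_comm (a : k) :
    (singleFunctor A i).map ((homologyFunctor A i).map (Q.map (ρ (φ a) : K ⟶ K))) ≫ (θ K i C).hom =
      (θ K i C).hom ≫ Q.map ((HomologicalComplex.single A (ComplexShape.up ℤ) i).map
        (HomologicalComplex.Hom.f (A := K) (B := K) (ρ a) i)) := by
  have h3 := abs3 (hQ_naturality i (ρ (φ a) : K ⟶ K)) (hC a)
  rw [θ, Iso.trans_hom, Category.assoc, ← sQ_naturality, Functor.mapIso_hom, ← Category.assoc, ← Functor.map_comp,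
    Iso.trans_hom, h3, Functor.map_comp, Category.assoc]

/-- the additive equivalence -/
noncomputable def j : G ((singleFunctor A 0).obj T) (Q.obj K) ((mapEnd Q K).comp ρ) n i ≃+ E T K ρ n i where
  toFun x := HTρ.toHT.symm (pf n (θ K i C).hom (HR.out x))
  invFun y := HR.out.symm (pf n (θ K i C).inv (HTρ.toHT y))
  left_inv x := by
    change pf n (θ K i C).inv (pf n (θ K i C).hom (HR.out x)) = HR.out x
    rw [← pf_comp, Iso.hom_inv_id]
    simp [pf]
  right_inv y := by
    change pf n (θ K i C).hom (pf n (θ K i C).inv (HTρ.toHT y)) = HTρ.toHT y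
    rw [← pf_comp, Iso.inv_hom_id]
    simp [pf]
  map_add' x y := Preadditive.add_comp _ _ _ (HR.out x) (HR.out y) ((θ K i C).hom⟦n⟧')

include hC in
theorem j_smul (a : k) (x : G ((singleFunctor A 0).obj T) (Q.obj K) ((mapEnd Q K).comp ρ) n i) :
    j T K ρ n i C (φ a • x) = a • j T K ρ n i C x := by
  change pf n (θ K i C).hom (pf n ((singleFunctor A i).map ((homologyFunctor A i).map (Q.map (ρ (φ a) : K ⟶ K))))
    (HR.out x)) = pf n (Q.map ((HomologicalComplex.single A (ComplexShape.up ℤ) i).map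
        (HomologicalComplex.Hom.f (A := K) (B := K) (ρ a) i))) (pf n (θ K i C).hom (HR.out x))
  rw [← pf_comp, ← pf_comp, θ_comm φ K ρ i C hC]

end semi

/-- **Degeneration.** -/
theorem main {k : Type*} [Field k] (φ : k ≃+* k) (p : ℕ) (hp : 1 ≤ p) (T : A) (K : CochainComplex A ℤ) (ρ : k →+* End K)
    (h0 : ∀ m, m < 0 → IsZero (K.X m)) (hN : ∀ m : ℤ, (p : ℤ) + 1 < m → IsZero (K.X m))
    (hE : ∀ (n : ℤ) (i : ℕ), i ≤ p + 1 → Module.Finite k (E T K ρ n i))
    (C : ∀ i : ℕ, K.homology i ≅ K.X i)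
    (hC : ∀ (i : ℕ) (a : k), HomologicalComplex.homologyMap (ρ (φ a) : K ⟶ K) i ≫ (C i).hom =
      (C i).hom ≫ HomologicalComplex.Hom.f (A := K) (B := K) (ρ a) i)
    (hdec : ∀ q : ℤ, q ≤ p + 1 → ∃ M : Finset.Icc (q + 1 - p) q → A,
      Nonempty ((t.truncGELE (q + 1 - p) q).obj (Q.obj K) ≅
        ⨁ (fun j : Finset.Icc (q + 1 - p) q => (singleFunctor A j.1).obj (M j))))
    (hinj : ∀ n : ℤ, Function.Injective (pf (T := (singleFunctor A 0).obj T) n ((t.truncLEι 0).app (Q.obj K))))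
    (hsurj : Function.Surjective (pf (T := (singleFunctor A 0).obj T) (p + 1) ((t.truncGEπ (p + 1)).app (Q.obj K))))
    (hvan : ∀ n : ℤ, (p : ℤ) + 1 < n → ∀ Z : DerivedCategory A, Z.IsGE 1 → Z.IsLE 1 →
      Subsingleton ((singleFunctor A 0).obj T ⟶ Z⟦n + 1⟧)) (n i : ℤ) :
    DegeneratesAt T K n i := by
  have i1 : K.IsStrictlyGE 0 := by rw [CochainComplex.isStrictlyGE_iff]; exact h0
  have i2 : K.IsStrictlyLE (p + 1) := by rw [CochainComplex.isStrictlyLE_iff]; exact hN
  have i3 : (Q.obj K).IsGE 0 := inferInstance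
  have i4 : (Q.obj K).IsLE (p + 1) := inferInstance
  have i5 : t.IsLE (Q.obj K) (p + 1) := i4
  have i6 : IsIso ((t.truncLEι ((p : ℤ) + 1)).app (Q.obj K)) := inferInstance
  have hsurj' : Function.Surjective (pf (T := (singleFunctor A 0).obj T) (p + 1)
      ((t.truncGEπ (p + 1)).app ((t.truncLE (p + 1)).obj (Q.obj K)))) := by
    have e : (t.truncGEπ (p + 1)).app ((t.truncLE (p + 1)).obj (Q.obj K)) =
        (t.truncLEι ((p : ℤ) + 1)).app (Q.obj K) ≫ (t.truncGEπ (p + 1)).app (Q.obj K) ≫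
          inv ((t.truncGE (p + 1)).map ((t.truncLEι ((p : ℤ) + 1)).app (Q.obj K))) := by
      rw [← Category.assoc, IsIso.eq_comp_inv]
      exact ((t.truncGEπ (p + 1)).naturality ((t.truncLEι ((p : ℤ) + 1)).app (Q.obj K))).symm
    rw [e]
    exact surjective_pf_comp _ _ _ (surjective_pf_of_isIso _ _)
      (surjective_pf_comp _ _ _ hsurj (surjective_pf_of_isIso _ _))
  have hs : ∀ i : ℕ, i < p + 2 → ∀ m, Function.Surjective
      (pf (T := (singleFunctor A 0).obj T) m (g (Q.obj K) i)) := by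
    intro i hi m
    exact surj ((singleFunctor A 0).obj T) (Q.obj K) p (by omega) hdec hinj hsurj' hvan i m (by omega) _ _
      (isIso_g (Q.obj K) i)
  have hG : ∀ (n : ℤ) (i : ℕ), i < p + 2 →
      Module.Finite k (G ((singleFunctor A 0).obj T) (Q.obj K) ((mapEnd Q K).comp ρ) n i) := by
    intro n i hi
    have := hE n i (by omega)
    exact finite_of_semi φ (j T K ρ n i (C i)) (j_smul φ T K ρ n i (C i) (hC i))
  obtain ⟨c1, c2⟩ := count ((singleFunctor A 0).obj T) (Q.obj K) ((mapEnd Q K).comp ρ) n (p + 2)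
    (fun i hi => hG n i hi) (fun i hi m => hs i hi m)
  -- identify the last step with `Q K`
  have e1 : (((p + 2 : ℕ) : ℤ)) - 1 = p + 1 := by push_cast; ring
  rw [e1] at c1 c2
  let F : V ((singleFunctor A 0).obj T) (Q.obj K) ((mapEnd Q K).comp ρ) n (p + 1) →ₗ[k] HTρ T K ρ n :=
    { toFun := fun x => HTρ.toHT.symm (pf n ((t.truncLEι ((p : ℤ) + 1)).app (Q.obj K)) (HR.out x))
      map_add' := fun x y => Preadditive.add_comp _ _ _ (HR.out x) (HR.out y) _
      map_smul' := fun a x => by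
        change pf n ((t.truncLEι ((p : ℤ) + 1)).app (Q.obj K)) (pf n ((t.truncLE ((p : ℤ) + 1)).map
          (Q.map (ρ a : K ⟶ K))) (HR.out x)) = pf n (Q.map (ρ a : K ⟶ K))
            (pf n ((t.truncLEι ((p : ℤ) + 1)).app (Q.obj K)) (HR.out x))
        rw [← pf_comp, ← pf_comp]
        exact congrArg (fun f => pf n f (HR.out x)) ((t.truncLEι ((p : ℤ) + 1)).naturality (Q.map (ρ a : K ⟶ K))) }
  have hF : Function.Bijective F :=
    ⟨injective_pf_of_isIso (T := (singleFunctor A 0).obj T) n _, surjective_pf_of_isIso (T := (singleFunctor A 0).obj T) n _⟩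
  have e2 := (LinearEquiv.ofBijective F hF).finrank_eq
  have hEall : ∀ i : ℤ, 0 ≤ i → i < p + 2 → Module.Finite k (E T K ρ n i) := by
    intro i hi0 hi1
    obtain ⟨i, rfl⟩ := Int.eq_ofNat_of_zero_le hi0
    exact hE n i (by omega)
  have key := K905.HTFin.main T K ρ n 0 (p + 2) (by omega) h0 (fun m hm => hN m (by omega)) hEall
  refine key.2.2.1 ?_ i
  rw [← e2, c2]
  have e3 : ∀ i ∈ Finset.range (p + 2), Module.finrank k (G ((singleFunctor A 0).obj T) (Q.obj K)
      ((mapEnd Q K).comp ρ) n i) = Module.finrank k (E T K ρ n (i : ℤ)) := fun i _ =>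
    finrank_eq_of_semi φ (j T K ρ n i (C i)) (j_smul φ T K ρ n i (C i) (hC i))
  rw [Finset.sum_congr rfl e3]
  refine Finset.sum_nbij (fun i : ℕ => (i : ℤ)) ?_ ?_ ?_ ?_
  · intro i hi
    simp only [Finset.mem_range] at hi
    simp only [Finset.mem_Ico]
    omega
  · intro i _ j _ hij
    simpa using hij
  · intro i hi
    simp only [Finset.coe_Ico, Set.mem_Ico] at hi
    refine ⟨i.toNat, ?_, by simpa using hi.1⟩
    simp only [Finset.coe_range, Set.mem_Iio]
    omega
  · intro i _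
    rfl

end K173.Degen
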