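import Groth.Agent.DelIll.K173.Degen

/-!
# The two ends of the conjugate filtration
-/

set_option autoImplicit false
universe w v u
open CategoryTheory CategoryTheory.Limits CategoryTheory.Pretriangulated DerivedCategory

namespace K173.Ends

open Groth.Agent.Sga4B.DTrunc DerivedCategory.TStructure K173.Split K905.Decomp

variable {A : Type u} [Category.{v} A] [Abelian A] [HasDerivedCategory.{w} A]

theorem heart_single (i : ℤ) (F : A) :
    (Q.obj ((HomologicalComplex.single A (ComplexShape.up ℤ) i).obj F)).IsGE i ∧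
      (Q.obj ((HomologicalComplex.single A (ComplexShape.up ℤ) i).obj F)).IsLE i := by
  have h1 : t.IsGE ((singleFunctor A i).obj F) i := (inferInstance : ((singleFunctor A i).obj F).IsGE i)
  have h2 : t.IsLE ((singleFunctor A i).obj F) i := (inferInstance : ((singleFunctor A i).obj F).IsLE i)
  exact ⟨t.isGE_of_iso (Degen.sQ i F) i, t.isLE_of_iso (Degen.sQ i F) i⟩

/-- The lower end. -/
theorem injective (K : CochainComplex A ℤ) (hK : (Q.obj K).IsGE 0) {O : A}
    (a : (HomologicalComplex.single A (ComplexShape.up ℤ) 0).obj O ⟶ K)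
    (b : K ⟶ (HomologicalComplex.single A (ComplexShape.up ℤ) 0).obj O) (hab : a ≫ b = 𝟙 _)
    (ha : IsIso (HomologicalComplex.homologyMap a 0)) (T : DerivedCategory A) (n : ℤ) :
    Function.Injective (pf (T := T) n ((t.truncLEι 0).app (Q.obj K))) := by
  obtain ⟨i1, i2⟩ := heart_single 0 O
  have j2 : t.IsLE (Q.obj ((HomologicalComplex.single A (ComplexShape.up ℤ) 0).obj O)) 0 := i2
  have jK : t.IsGE (Q.obj K) 0 := hK
  have i3 : ((t.truncLE 0).obj (Q.obj K)).IsGE 0 := (inferInstance : t.IsGE ((t.truncLE 0).obj (Q.obj K)) 0)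
  have i4 : ((t.truncLE 0).obj (Q.obj K)).IsLE 0 := (inferInstance : t.IsLE ((t.truncLE 0).obj (Q.obj K)) 0)
  have e1 : t.liftTruncLE (Q.map a) 0 ≫ (t.truncLEι 0).app (Q.obj K) = Q.map a := t.liftTruncLE_ι _ _
  have h1 : IsIso ((homologyFunctor A 0).map (Q.map a)) :=
    (NatIso.isIso_map_iff (homologyFunctorFactors A 0) a).2 ha
  have h2 : IsIso ((homologyFunctor A 0).map (t.liftTruncLE (Q.map a) 0)) := by
    have h3 : IsIso ((homologyFunctor A 0).map (t.liftTruncLE (Q.map a) 0) ≫
        (homologyFunctor A 0).map ((t.truncLEι 0).app (Q.obj K))) := by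
      rw [← Functor.map_comp, e1]
      exact h1
    exact IsIso.of_isIso_comp_right _ ((homologyFunctor A 0).map ((t.truncLEι 0).app (Q.obj K)))
  have h4 : IsIso (t.liftTruncLE (Q.map a) 0) := isIso_of_heart 0 _ h2
  have e2 : (t.truncLEι 0).app (Q.obj K) = inv (t.liftTruncLE (Q.map a) 0) ≫ Q.map a :=
    ((IsIso.inv_comp_eq _).2 e1.symm).symm
  rw [e2]
  refine injective_pf_comp _ _ _ (injective_pf_of_isIso _ _) (injective_pf_of_comp n (Q.map a) (Q.map b) ?_)
  rw [← Functor.map_comp, hab, CategoryTheory.Functor.map_id]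
  exact injective_pf_of_isIso _ _

/-- The upper end. -/
theorem surjective (K : CochainComplex A ℤ) (d : ℤ) (hK : (Q.obj K).IsLE d) {F : A}
    (c : (HomologicalComplex.single A (ComplexShape.up ℤ) d).obj F ⟶ K)
    (hc : ∃ s : K.homology d ⟶ ((HomologicalComplex.single A (ComplexShape.up ℤ) d).obj F).homology d,
      s ≫ HomologicalComplex.homologyMap c d = 𝟙 _) (T : DerivedCategory A) (n : ℤ) :
    Function.Surjective (pf (T := T) n ((t.truncGEπ d).app (Q.obj K))) := by
  obtain ⟨s, hs⟩ := hc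
  obtain ⟨i1, i2⟩ := heart_single d F
  have jK : t.IsLE (Q.obj K) d := hK
  have i3 : ((t.truncGE d).obj (Q.obj K)).IsGE d := (inferInstance : t.IsGE ((t.truncGE d).obj (Q.obj K)) d)
  have i4 : ((t.truncGE d).obj (Q.obj K)).IsLE d := (inferInstance : t.IsLE ((t.truncGE d).obj (Q.obj K)) d)
  have h1 := isIso_homology_map_truncGEπ d (Q.obj K)
  -- the section on homology
  let L := (HomologicalComplex.single A (ComplexShape.up ℤ) d).obj F
  obtain ⟨v, hv⟩ := (bij_heart d ((t.truncGE d).obj (Q.obj K)) (Q.obj L)).2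
    (inv ((homologyFunctor A d).map ((t.truncGEπ d).app (Q.obj K))) ≫ (hQ K d).hom ≫ s ≫ (hQ L d).inv)
  have hv' : (homologyFunctor A d).map v = inv ((homologyFunctor A d).map ((t.truncGEπ d).app (Q.obj K))) ≫
    (hQ K d).hom ≫ s ≫ (hQ L d).inv := hv
  have key : v ≫ Q.map c ≫ (t.truncGEπ d).app (Q.obj K) = 𝟙 _ := by
    refine (bij_heart d _ _).1 ?_
    change (homologyFunctor A d).map (v ≫ Q.map c ≫ (t.truncGEπ d).app (Q.obj K)) = (homologyFunctor A d).map (𝟙 _)
    rw [Functor.map_comp, Functor.map_comp, hv', CategoryTheory.Functor.map_id]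
    have e1 : (homologyFunctor A d).map (Q.map c) = (hQ L d).hom ≫ HomologicalComplex.homologyMap c d ≫ (hQ K d).inv := by
      rw [← Category.assoc, Iso.eq_comp_inv]
      exact Degen.hQ_naturality d c
    rw [e1]
    simp only [Category.assoc, Iso.inv_hom_id_assoc]
    rw [← Category.assoc s, hs, Category.id_comp, Iso.hom_inv_id_assoc, IsIso.inv_hom_id]
  refine surjective_pf_of_comp n (v ≫ Q.map c) _ ?_
  rw [Category.assoc, key]
  exact surjective_pf_of_isIso _ _

end K173.Ends
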