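import Groth.Agent.DelIll.K173.Ends
import Mathlib.Algebra.Homology.SingleHomology

/-!
# Degeneration for a complex in non-negative degrees
-/

set_option autoImplicit false
universe w v u
open CategoryTheory CategoryTheory.Limits CategoryTheory.Pretriangulated DerivedCategory HomologicalComplex

namespace K173.EndsN

open Groth.Agent.Sga4B.DTrunc DerivedCategory.TStructure K173.Split K905.Decomp K905.HTFin KLinDR E1Deg

section single

variable {A : Type u} [Category.{v} A] [Abelian A] {ι : Type*} [DecidableEq ι] {c : ComplexShape ι}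

theorem homologyMap_mkHomFromSingle {K : HomologicalComplex A c} {j : ι} {F : A} (φ : F ⟶ K.X j)
    (hφ : ∀ k, c.Rel j k → φ ≫ K.d j k = 0) (k : ι) (hk : c.next j = k) (hφ' : φ ≫ K.d j k = 0) :
    homologyMap (mkHomFromSingle φ hφ) j =
      (singleObjHomologySelfIso c j F).hom ≫ K.liftCycles φ k hk hφ' ≫ K.homologyπ j := by
  have h1 : cyclesMap (mkHomFromSingle φ hφ) j = (singleObjCyclesSelfIso c j F).hom ≫ K.liftCycles φ k hk hφ' := by
    rw [← cancel_mono (K.iCycles j), Category.assoc, liftCycles_i, cyclesMap_i, mkHomFromSingle_f,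
      singleObjCyclesSelfIso_hom, Category.assoc]
  rw [← cancel_epi (homologyπ _ j), homologyπ_naturality, h1, Category.assoc,
    ← Category.assoc (homologyπ _ j) (singleObjHomologySelfIso c j F).hom, homologyπ_singleObjHomologySelfIso_hom]

end single

variable {A : Type u} [Category.{v} A] [Abelian A]

local notation "e₀" => ComplexShape.embeddingUpNat

section ext

variable (K : CochainComplex A ℕ) (C : ∀ i : ℕ, K.homology i ≅ K.X i)

/-- the extended identification -/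
noncomputable def Cz (i : ℕ) : (K.extend e₀).homology (i : ℤ) ≅ (K.extend e₀).X (i : ℤ) :=
  K.extendHomologyIso e₀ (ComplexShape.embeddingUpNat_f i) ≪≫ C i ≪≫
    (K.extendXIso e₀ (ComplexShape.embeddingUpNat_f i)).symm

theorem Cz_comm {K : CochainComplex A ℕ} (C : ∀ i : ℕ, K.homology i ≅ K.X i) (f g : K ⟶ K) (i : ℕ)
    (h : homologyMap f i ≫ (C i).hom = (C i).hom ≫ g.f i) :
    homologyMap (extendMap f e₀) (i : ℤ) ≫ (Cz K C i).hom =
      (Cz K C i).hom ≫ (extendMap g e₀).f (i : ℤ) := by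
  rw [Cz, Iso.trans_hom, Iso.trans_hom, Iso.symm_hom, ← Category.assoc, extendHomologyIso_hom_naturality,
    Category.assoc, ← Category.assoc (homologyMap f i), h, extendMap_f g e₀ (ComplexShape.embeddingUpNat_f i)]
  simp only [Category.assoc, Iso.inv_hom_id_assoc]

variable {K}

theorem lift_comm {F : A} (i : ℕ) (φ : F ⟶ K.X i) (hφ : φ ≫ K.d i (i + 1) = 0)
    (hφZ : (φ ≫ (K.extendXIso e₀ (ComplexShape.embeddingUpNat_f i)).inv) ≫ (K.extend e₀).d (i : ℤ) (i + 1) = 0) :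
    (K.extend e₀).liftCycles (φ ≫ (K.extendXIso e₀ (ComplexShape.embeddingUpNat_f i)).inv) (i + 1)
        (CochainComplex.next ℤ (i : ℤ)) hφZ ≫
      (K.extendCyclesIso e₀ (ComplexShape.embeddingUpNat_f i)).hom =
      K.liftCycles φ (i + 1) (CochainComplex.next ℕ i) hφ := by
  rw [← cancel_mono (K.iCycles i), Category.assoc, extendCyclesIso_hom_iCycles, liftCycles_i,
    ← Category.assoc, liftCycles_i, Category.assoc, Iso.inv_hom_id, Category.comp_id]

theorem comp_d_zero {F : A} (i : ℕ) (φ : F ⟶ K.X i) (hφ : φ ≫ K.d i (i + 1) = 0) :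
    (φ ≫ (K.extendXIso e₀ (ComplexShape.embeddingUpNat_f i)).inv) ≫ (K.extend e₀).d (i : ℤ) (i + 1) = 0 := by
  rw [K.extend_d_eq e₀ (ComplexShape.embeddingUpNat_f i) (show ComplexShape.embeddingUpNat.f (i + 1) = (i : ℤ) + 1 from by simp)]
  simp only [Category.assoc, Iso.inv_hom_id_assoc]
  rw [← Category.assoc, hφ, zero_comp]

end ext

variable [HasDerivedCategory.{w} A]

/-- **Degeneration.** -/
theorem main {k : Type*} [Field k] (φ : k ≃+* k) (p : ℕ) (hp : 1 ≤ p) (T : A) (K : CochainComplex A ℕ) (ρ : k →+* End K)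
    (hN : ∀ m : ℕ, p + 1 < m → IsZero (K.X m))
    (hE : ∀ (n : ℤ) (i : ℕ), i ≤ p + 1 →
      Module.Finite k (E T (K.extend e₀) ((extendEnd K e₀).comp ρ) n i))
    (C : ∀ i : ℕ, K.homology i ≅ K.X i)
    (hC : ∀ (i : ℕ) (a : k), homologyMap (ρ (φ a) : K ⟶ K) i ≫ (C i).hom =
      (C i).hom ≫ HomologicalComplex.Hom.f (A := K) (B := K) (ρ a) i)
    (hdec : ∀ q : ℤ, q ≤ p + 1 → ∃ M : Finset.Icc (q + 1 - p) q → A,
      Nonempty ((t.truncGELE (q + 1 - p) q).obj (Q.obj (K.extend e₀)) ≅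
        ⨁ (fun j : Finset.Icc (q + 1 - p) q => (singleFunctor A j.1).obj (M j))))
    {O : A} (α : O ⟶ K.X 0) (hα : α ≫ K.d 0 1 = 0) (σ : K.X 0 ⟶ O) (hασ : α ≫ σ = 𝟙 O)
    (hαC : IsIso (K.liftCycles α 1 (CochainComplex.next ℕ 0) hα ≫ K.homologyπ 0 ≫ (C 0).hom))
    (Ψ : K.X (p + 1) ⟶ K.X (p + 1)) (hd : K.d (p + 1) (p + 1 + 1) = 0)
    (hΨ : Ψ ≫ K.liftCycles (𝟙 (K.X (p + 1))) (p + 1 + 1) (CochainComplex.next ℕ (p + 1)) (by rw [hd, comp_zero]) ≫
      K.homologyπ (p + 1) ≫ (C (p + 1)).hom = 𝟙 _)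
    (hvan : ∀ n : ℤ, (p : ℤ) + 1 < n → ∀ Z : DerivedCategory A, Z.IsGE 1 → Z.IsLE 1 →
      Subsingleton ((singleFunctor A 0).obj T ⟶ Z⟦n + 1⟧)) (n i : ℤ) :
    DegeneratesAt T (K.extend e₀) n i := by
  have h0 : ∀ m, m < 0 → IsZero ((K.extend e₀).X m) := fun m hm =>
    K.isZero_extend_X e₀ m fun p hp => by
      have : (p : ℤ) = m := hp
      omega
  have hN' : ∀ m : ℤ, (p : ℤ) + 1 < m → IsZero ((K.extend e₀).X m) := by
    intro m hm
    obtain ⟨m, rfl⟩ := Int.eq_ofNat_of_zero_le (show 0 ≤ m by omega)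
    exact (hN m (by omega)).of_iso (K.extendXIso e₀ (ComplexShape.embeddingUpNat_f m))
  have i1 : CochainComplex.IsStrictlyGE (K.extend e₀) 0 := by rw [CochainComplex.isStrictlyGE_iff]; exact h0
  have i2 : CochainComplex.IsStrictlyLE (K.extend e₀) (p + 1) := by rw [CochainComplex.isStrictlyLE_iff]; exact hN'
  have i3 : (Q.obj (K.extend e₀)).IsGE 0 := inferInstance
  have i4 : (Q.obj (K.extend e₀)).IsLE (p + 1) := inferInstance
  refine Degen.main φ p hp T (K.extend e₀) ((extendEnd K e₀).comp ρ) h0 hN' hE (Cz K C)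
    (fun i a => Cz_comm C _ _ i (hC i a)) hdec (fun n => ?_) ?_ hvan n i
  · -- the lower end
    let x0 := K.extendXIso e₀ (ComplexShape.embeddingUpNat_f 0)
    have hαZ : (α ≫ x0.inv) ≫ (K.extend e₀).d ((0 : ℕ) : ℤ) (((0 : ℕ) : ℤ) + 1) = 0 := comp_d_zero 0 α hα
    have hαZ' : ∀ j : ℤ, (ComplexShape.up ℤ).Rel ((0 : ℕ) : ℤ) j → (α ≫ x0.inv) ≫ (K.extend e₀).d ((0 : ℕ) : ℤ) j = 0 := by
      intro j hj
      have : ((0 : ℕ) : ℤ) + 1 = j := hj
      subst this
      exact hαZ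
    let a : (single A (ComplexShape.up ℤ) ((0 : ℕ) : ℤ)).obj O ⟶ K.extend e₀ := mkHomFromSingle (α ≫ x0.inv) hαZ'
    let b : K.extend e₀ ⟶ (single A (ComplexShape.up ℤ) ((0 : ℕ) : ℤ)).obj O := mkHomToSingle (x0.hom ≫ σ) (by
      intro j hj
      have hj' : j + 1 = ((0 : ℕ) : ℤ) := hj
      exact (h0 j (by omega)).eq_of_src _ _)
    have hab : a ≫ b = 𝟙 _ := by
      apply from_single_hom_ext
      rw [comp_f, id_f, mkHomFromSingle_f, mkHomToSingle_f]
      simp only [Category.assoc]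
      rw [← Category.assoc x0.inv, Iso.inv_hom_id, Category.id_comp, ← Category.assoc α, hασ, Category.id_comp,
        Iso.hom_inv_id]
    refine Ends.injective (K.extend e₀) i3 a b hab ?_ _ n
    have e1 := homologyMap_mkHomFromSingle (α ≫ x0.inv) hαZ' (((0 : ℕ) : ℤ) + 1) (CochainComplex.next ℤ _) hαZ
    have e2 := lift_comm 0 α hα hαZ
    have e3 : (K.extend e₀).liftCycles (α ≫ x0.inv) (((0 : ℕ) : ℤ) + 1) (CochainComplex.next ℤ _) hαZ ≫
        (K.extend e₀).homologyπ ((0 : ℕ) : ℤ) =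
        (K.liftCycles α 1 (CochainComplex.next ℕ 0) hα ≫ K.homologyπ 0 ≫ (C 0).hom) ≫ (C 0).inv ≫
          (K.extendHomologyIso e₀ (ComplexShape.embeddingUpNat_f 0)).inv := by
      rw [← cancel_mono (K.extendHomologyIso e₀ (ComplexShape.embeddingUpNat_f 0)).hom]
      simp only [Category.assoc, Iso.hom_inv_id_assoc, Iso.inv_hom_id, Category.comp_id]
      rw [homologyπ_extendHomologyIso_hom, ← Category.assoc]
      exact congrArg (fun t => t ≫ K.homologyπ 0) e2
    change IsIso (homologyMap (mkHomFromSingle (α ≫ x0.inv) hαZ') ((0 : ℕ) : ℤ))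
    rw [e1, e3]
    infer_instance
  · -- the upper end
    let x0 := K.extendXIso e₀ (ComplexShape.embeddingUpNat_f (p + 1))
    have hid : 𝟙 (K.X (p + 1)) ≫ K.d (p + 1) (p + 1 + 1) = 0 := by rw [hd, comp_zero]
    have hcZ : (𝟙 _ ≫ x0.inv) ≫ (K.extend e₀).d ((p + 1 : ℕ) : ℤ) (((p + 1 : ℕ) : ℤ) + 1) = 0 :=
      comp_d_zero (p + 1) _ hid
    have hcZ' : ∀ j : ℤ, (ComplexShape.up ℤ).Rel ((p + 1 : ℕ) : ℤ) j →
        (𝟙 _ ≫ x0.inv) ≫ (K.extend e₀).d ((p + 1 : ℕ) : ℤ) j = 0 := by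
      intro j hj
      have : ((p + 1 : ℕ) : ℤ) + 1 = j := hj
      subst this
      exact hcZ
    have key := Ends.surjective (K.extend e₀) ((p + 1 : ℕ) : ℤ) i4 (mkHomFromSingle (𝟙 _ ≫ x0.inv) hcZ') ?_
      ((singleFunctor A 0).obj T) (p + 1)
    · exact key
    · refine ⟨(K.extendHomologyIso e₀ (ComplexShape.embeddingUpNat_f (p + 1))).hom ≫ (C (p + 1)).hom ≫ Ψ ≫
        (singleObjHomologySelfIso (ComplexShape.up ℤ) ((p + 1 : ℕ) : ℤ) (K.X (p + 1))).inv, ?_⟩
      rw [homologyMap_mkHomFromSingle (𝟙 _ ≫ x0.inv) hcZ' (((p + 1 : ℕ) : ℤ) + 1) (CochainComplex.next ℤ _) hcZ]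
      have e2 := lift_comm (p + 1) _ hid hcZ
      rw [← cancel_mono (K.extendHomologyIso e₀ (ComplexShape.embeddingUpNat_f (p + 1))).hom,
        ← cancel_mono (C (p + 1)).hom]
      simp only [Category.assoc, Iso.inv_hom_id_assoc]
      rw [← Category.assoc ((K.extend e₀).homologyπ _), homologyπ_extendHomologyIso_hom]
      simp only [Category.assoc]
      rw [← Category.assoc (liftCycles _ _ _ _ _), e2, hΨ, Category.comp_id]
      exact (Category.id_comp _).symm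

end K173.EndsN
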