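import Groth.Agent.DelIll.K173.GeoTop
import Groth.Agent.DelIll.K173.EndsN
import Groth.Agent.DelIll.K904.LogCxT
import Groth.Agent.DelIll.K904.LogCxZ
import Groth.Agent.DelIll.K905.HTSch
import Groth.Agent.PerfA.CohSerre
import Groth.Agent.S0002
import Groth.Agent.S0458

/-!
# Degeneration in dimension `p + 1` for Frobenius split schemes
-/

set_option autoImplicit false
universe u

open CategoryTheory CategoryTheory.Limits AlgebraicGeometry Opposite TopologicalSpace

namespace K173.Final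

open K173.GeoCar K173.GeoTop K905.HTFin K905.HTSingle

section van

variable (X : Scheme.{u}) [HasDerivedCategory.{u} (Sheaf (Opens.grothendieckTopology ↥X) AddCommGrpCat.{u})]

theorem subsingleton_shift [NoetherianSpace X] (N : ℕ) (hN : topologicalKrullDim X ≤ N) (n : ℤ) (hn : (N : ℤ) < n)
    (Z : DerivedCategory (Sheaf (Opens.grothendieckTopology ↥X) AddCommGrpCat.{u})) (h1 : Z.IsGE 1) (h2 : Z.IsLE 1) :
    Subsingleton ((DerivedCategory.singleFunctor (Sheaf (Opens.grothendieckTopology ↥X) AddCommGrpCat.{u}) 0).obj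
      (CohCx.freeSheaf (Opens.grothendieckTopology X) (⊤ : X.Opens)) ⟶ Z⟦n + 1⟧) := by
  obtain ⟨F, ⟨e⟩⟩ := DerivedCategory.exists_iso_singleFunctor_obj_of_isGE_of_isLE Z 1
  obtain ⟨m, rfl⟩ := Int.eq_ofNat_of_zero_le (show 0 ≤ n by omega)
  have h3 : Subsingleton (Sheaf.H.{u} F m) :=
    Groth.Agent.S0458.result (X := TopCat.of X) N hN F m (by omega)
  have h4 : Subsingleton (E1Deg.HT (CohCx.freeSheaf (Opens.grothendieckTopology X) (⊤ : X.Opens))
      ((HomologicalComplex.single _ (ComplexShape.up ℤ) (1 : ℤ)).obj F) ((m : ℤ) + 1)) :=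
    (grAdd (K905.HTSch.zIso X) (Iso.refl F) 1 ((m : ℤ) + 1) m (by omega)).toEquiv.subsingleton_congr.2 h3
  let e' : Z ≅ DerivedCategory.Q.obj ((HomologicalComplex.single _ (ComplexShape.up ℤ) (1 : ℤ)).obj F) :=
    e ≪≫ (DerivedCategory.singleFunctorIsoCompQ _ 1).app F
  refine ⟨fun x y => ?_⟩
  have h5 := h4.elim (x ≫ (shiftFunctor _ ((m : ℤ) + 1)).map e'.hom) (y ≫ (shiftFunctor _ ((m : ℤ) + 1)).map e'.hom)
  exact (cancel_mono ((shiftFunctor _ ((m : ℤ) + 1)).map e'.hom)).1 h5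

end van

variable (p : ℕ) [Fact p.Prime] (k : Type u) [Field k] [CharP k p] [PerfectRing k p]
    (X : Scheme.{u}) [X.Over (Spec (CommRingCat.of k))] [IsProper (X ↘ Spec (CommRingCat.of k))]
    [Smooth (X ↘ Spec (CommRingCat.of k))]

theorem finite_E {Ω' : X.Modules} {d : OmegaSh.Der (X ↘ Spec (CommRingCat.of k)) Ω'} (hd : OmegaSh.IsUniversal d)
    (D : DeRhamSh.Cx (X ↘ Spec (CommRingCat.of k)) Ω' d)
    [HasDerivedCategory.{u} (Sheaf (Opens.grothendieckTopology ↥X) AddCommGrpCat.{u})] (n : ℤ) (i : ℕ) :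
    Module.Finite k (E (CohCx.freeSheaf (Opens.grothendieckTopology X) (⊤ : X.Opens)) D.KZ
      (KLinDR.scalar (K904.LogCxT.termwiseLinear_univ hd D)) n i) := by
  rcases lt_or_ge n (i : ℤ) with h | h
  · have := K905.HTAbs.subsingleton_E (CohCx.freeSheaf (Opens.grothendieckTopology X) (⊤ : X.Opens)) D.KZ
      (KLinDR.scalar (K904.LogCxT.termwiseLinear_univ hd D)) n i h
    infer_instance
  · obtain ⟨m, hm⟩ := Int.eq_ofNat_of_zero_le (show 0 ≤ n - i by omega)
    have hfl : FlatMod.IsFinLocFree (D.term i) :=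
      K904.LogCxM.isFinLocFree_term (K922.Univ.affUniv hd) (K904.LogCxT.isNCD_empty _ Fin.elim0)
        (K904.LogCxT.ofCx D Fin.elim0) i
    have hfin : Module.Finite k (Coh.HH X (D.term i) m) :=
      Groth.Agent.S0002.result k X (D.term i) (Groth.Agent.PerfA.CohSerre.isCoh_of_isFinLocFree hfl) m
    exact Module.Finite.equiv (K905.HTAbs.grLin (K905.HTSch.zIso X) D.KZ
      (KLinDR.scalar (K904.LogCxT.termwiseLinear_univ hd D)) (i : ℤ) n m (by omega)
      (D.K.extendXIso ComplexShape.embeddingUpNat (ComplexShape.embeddingUpNat_f i) ≪≫ D.iso i)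
      (fun a => Coh.smulAb (D.term i) (Coh.toGlobal (X ↘ Spec (CommRingCat.of k)) a))
      (fun a => K905.HTSch.scalar_f_comp (K904.LogCxT.termwiseLinear_univ hd D) i a)
      (W := Coh.HH X (D.term i) m) (AddEquiv.refl _) (fun a x => rfl)).symm

/-- **Degeneration.** -/
theorem main [IrreducibleSpace X] (hdim : topologicalKrullDim X = (p + 1 : ℕ))
    (φ : Coh.toAb (Coh.structureModule X) ⟶ Coh.toAb (Coh.structureModule X))
    (hφ : ∀ (U : X.Opens) (t : Γ(X, U)), φ.hom.app (op U) t = t ^ p)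
    (s : Coh.toAb (Coh.structureModule X) ⟶ Coh.toAb (Coh.structureModule X))
    (hs : φ ≫ s = 𝟙 _)
    (hlin : ∀ (U : X.Opens) (a b : Γ(X, U)),
      s.hom.app (op U) (a ^ p * b) = a * @id Γ(X, U) (s.hom.app (op U) b))
    {Ω' : X.Modules} (d : OmegaSh.Der (X ↘ Spec (CommRingCat.of k)) Ω') (hd : OmegaSh.IsUniversal d)
    (D : DeRhamSh.Cx (X ↘ Spec (CommRingCat.of k)) Ω' d)
    [HasDerivedCategory.{u} (Sheaf (Opens.grothendieckTopology ↥X) AddCommGrpCat.{u})]
    (hdec : ∀ q : ℤ, Nonempty ((DerivedCategory.TStructure.t.truncGELE (q + 1 - p) q).obj (DerivedCategory.Q.obj D.KZ) ≅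
      ⨁ (fun j : Finset.Icc (q + 1 - p) q =>
        (DerivedCategory.singleFunctor (Sheaf (Opens.grothendieckTopology ↥X) AddCommGrpCat.{u}) j.1).obj
          (D.KZ.homology j.1)))) :
    E1Deg.HyperDegenerates D.KZ (⊤ : X.Opens) := by
  have hrel := K911.Geo.smoothOfRelativeDimension (X ↘ Spec (CommRingCat.of k)) hdim
  have hB := exists_ch (p := p) (p + 1) hd
  have hz : ∀ m : ℕ, p + 1 < m → IsZero (D.K.X m) := by
    intro m hm
    have h1 : IsZero (D.term m) :=
      K904.LogCxZ.isZero_term (K922.Univ.affUniv hd) hdim.le (K904.LogCxT.isNCD_empty _ Fin.elim0)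
        (K904.LogCxT.ofCx D Fin.elim0) m hm
    exact IsZero.of_iso (Functor.map_isZero (SheafOfModules.toSheaf X.ringCatSheaf) h1) (D.iso m)
  have hloc : IsLocallyNoetherian X := LocallyOfFiniteType.isLocallyNoetherian (X ↘ Spec (CommRingCat.of k))
  have hcpt : CompactSpace X := QuasiCompact.compactSpace_of_compactSpace (X ↘ Spec (CommRingCat.of k))
  have hnoe : IsNoetherian X := ⟨⟩
  have hns : NoetherianSpace X := inferInstance
  have hd0 : D.K.d (p + 1) (p + 1 + 1) = 0 := (hz (p + 1 + 1) (by omega)).eq_of_tgt _ _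
  have hj := isIso_j0 hB D
  intro n i
  refine EndsN.main (frobeniusEquiv k p) p (Fact.out : p.Prime).one_lt.le
    (CohCx.freeSheaf (Opens.grothendieckTopology X) (⊤ : X.Opens)) D.K
    (KLinDR.scalarN (K904.LogCxT.termwiseLinear_univ hd D)) hz (fun n i _ => finite_E k X hd D n i) (C hB D)
    (fun i a => hC hB D (K904.LogCxT.termwiseLinear_univ hd D) i a) (fun q _ => ⟨_, hdec q⟩)
    (φ ≫ j0 hB D) (φ_j0_d hB D φ hφ) (inv (j0 hB D) ≫ s) (by simp [hs])
    (by rw [lift_C0 hB D φ hφ]; exact hj) (Psi hB D s hlin) hd0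
    (Psi_C hB D s hlin φ hφ hs (by rw [hd0, comp_zero]))
    (fun n hn Z h1 h2 => subsingleton_shift X (p + 1) hdim.le n (by exact_mod_cast hn) Z h1 h2) n i

end K173.Final
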