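import Groth.Agent.DelIll.K173.CarOp
import Groth.Agent.DelIll.K173.BasisIso
import Groth.Agent.DelIll.K905.GeoCov
import Groth.Agent.Vanish.K911.Geo

/-!
# The Cartier isomorphism as an isomorphism of abelian sheaves on `X`
-/

set_option autoImplicit false
set_option linter.style.haveILetI false
set_option linter.unusedSectionVars false
universe u

open CategoryTheory CategoryTheory.Limits AlgebraicGeometry Opposite TopologicalSpace K904 K905.TotPhi K905.TotM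
open K905.GeoPhi K173.CarOp K173.BasisIso Module

namespace K173.GeoCar

section charts

variable {p : ℕ} [hp : Fact p.Prime] {X S : Scheme.{u}} {f : X ⟶ S} {Ω' : X.Modules}

variable (p) in
/-- A chart on an open. -/
structure Ch (δ : OmegaSh.Der f Ω') (n : ℕ) (V : X.Opens) where
  aff : IsAffineOpen V
  ch : CharP Γ(X, V) p
  x : Fin n → Γ(X, V)
  e : Basis (Fin n) Γ(X, V) Γ(Ω', V)
  log : LocalCartier.LogChart p (fun _ : Fin n => False) x (δ.app V) e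

variable (p) in
/-- The chart opens. -/
def chs (δ : OmegaSh.Der f Ω') (n : ℕ) : Set (Opens X) := {V | Nonempty (Ch p δ n V)}

variable {δ : OmegaSh.Der f Ω'} {n : ℕ}

variable (p δ n) in
/-- The chosen chart. -/
noncomputable def chart (V : chs p δ n) : Ch p δ n V.1 := V.2.some

variable {V W : X.Opens} (c : Ch p δ n V)

/-- The affine open. -/
abbrev Ch.U : X.affineOpens := ⟨V, c.aff⟩

/-- the de Rham differential -/
noncomputable abbrev Ch.d : ExteriorAlgebra Γ(X, V) Γ(Ω', V) →+ ExteriorAlgebra Γ(X, V) Γ(Ω', V) :=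
  LocalCartier.d (δ.app V) c.e

include c in
theorem Ch.pz : PZ p Γ(X, V) := ⟨c.ch.cast_eq_zero⟩

theorem Ch.isDR : IsDR (δ.app V) c.d := by
  have := c.ch
  have := c.pz
  exact CarOp.isDR c.log

include c in
theorem Ch.hspan (m : Γ(Ω', V)) : m ∈ Submodule.span Γ(X, V) (Set.range (δ.app V)) := by
  refine Submodule.span_mono ?_ (c.e.mem_span m)
  rintro _ ⟨l, rfl⟩
  exact ⟨_, c.log.plain l not_false⟩

/-- The relation of the Cartier operator. -/
def Ch.Rel (y z : ExteriorAlgebra Γ(X, V) Γ(Ω', V)) : Prop :=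
  letI := c.pz
  CarOp.Rel p c.log.leib c.d y z

/-- The Cartier operator on the chart. -/
noncomputable def Ch.r : ExteriorAlgebra Γ(X, V) Γ(Ω', V) →+ ExteriorAlgebra Γ(X, V) Γ(Ω', V) :=
  letI := c.ch
  letI := c.pz
  (CarOp.exists_r c.log).choose

theorem Ch.r_spec : letI := c.ch; letI := c.pz;
    (∀ y, c.d y = 0 → CarOp.Rel p c.log.leib c.d y (c.r y)) ∧
    (∀ y z, CarOp.Rel p c.log.leib c.d y z → c.r y = z) ∧
    (∀ y, c.r (c.d y) = 0) ∧
    (∀ (b : Γ(X, V)) y, c.r (b ^ p • y) = b • c.r y) ∧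
    (∀ n, ∀ y ∈ ⋀[Γ(X, V)]^n Γ(Ω', V), c.r y ∈ ⋀[Γ(X, V)]^n Γ(Ω', V)) ∧
    (∀ n, ∀ y ∈ ⋀[Γ(X, V)]^n Γ(Ω', V), ∃ z ∈ ⋀[Γ(X, V)]^n Γ(Ω', V), c.d z = 0 ∧ c.r z = y) ∧
    (∀ n, ∀ y ∈ ⋀[Γ(X, V)]^(n + 1) Γ(Ω', V), c.d y = 0 → c.r y = 0 → ∃ w ∈ ⋀[Γ(X, V)]^n Γ(Ω', V), c.d w = y) ∧
    (∀ y ∈ ⋀[Γ(X, V)]^0 Γ(Ω', V), c.d y = 0 → c.r y = 0 → y = 0) :=
  letI := c.ch
  letI := c.pz
  (CarOp.exists_r c.log).choose_spec

theorem Ch.rel_r (y : ExteriorAlgebra Γ(X, V) Γ(Ω', V)) (hy : c.d y = 0) : c.Rel y (c.r y) := c.r_spec.1 y hy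

theorem Ch.r_eq {y z : ExteriorAlgebra Γ(X, V) Γ(Ω', V)} (h : c.Rel y z) : c.r y = z := c.r_spec.2.1 y z h

theorem Ch.r_d (y : ExteriorAlgebra Γ(X, V) Γ(Ω', V)) : c.r (c.d y) = 0 := c.r_spec.2.2.1 y

theorem Ch.r_smul (b : Γ(X, V)) (y : ExteriorAlgebra Γ(X, V) Γ(Ω', V)) : c.r (b ^ p • y) = b • c.r y :=
  c.r_spec.2.2.2.1 b y

theorem Ch.r_mem (i : ℕ) (y : ExteriorAlgebra Γ(X, V) Γ(Ω', V)) (hy : y ∈ ⋀[Γ(X, V)]^i Γ(Ω', V)) :
    c.r y ∈ ⋀[Γ(X, V)]^i Γ(Ω', V) := c.r_spec.2.2.2.2.1 i y hy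

theorem Ch.r_surj (i : ℕ) (y : ExteriorAlgebra Γ(X, V) Γ(Ω', V)) (hy : y ∈ ⋀[Γ(X, V)]^i Γ(Ω', V)) :
    ∃ z ∈ ⋀[Γ(X, V)]^i Γ(Ω', V), c.d z = 0 ∧ c.r z = y := c.r_spec.2.2.2.2.2.1 i y hy

theorem Ch.r_exact (i : ℕ) (y : ExteriorAlgebra Γ(X, V) Γ(Ω', V)) (hy : y ∈ ⋀[Γ(X, V)]^(i + 1) Γ(Ω', V))
    (h1 : c.d y = 0) (h2 : c.r y = 0) : ∃ w ∈ ⋀[Γ(X, V)]^i Γ(Ω', V), c.d w = y :=
  c.r_spec.2.2.2.2.2.2.1 i y hy h1 h2

theorem Ch.r_zero (y : ExteriorAlgebra Γ(X, V) Γ(Ω', V)) (hy : y ∈ ⋀[Γ(X, V)]^0 Γ(Ω', V))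
    (h1 : c.d y = 0) (h2 : c.r y = 0) : y = 0 := c.r_spec.2.2.2.2.2.2.2 y hy h1 h2

/-- The Cartier operator commutes with restriction, on closed forms. -/
theorem Ch.r_res (c' : Ch p δ n W) (h : W ≤ V) (y : ExteriorAlgebra Γ(X, V) Γ(Ω', V)) (hy : c.d y = 0) :
    c'.r (Semi.extR (rO h) (rM Ω' h) (rM_smul Ω' h) y) = Semi.extR (rO h) (rM Ω' h) (rM_smul Ω' h) (c.r y) := by
  letI := c.ch
  letI := c.pz
  letI := c'.ch
  letI := c'.pz
  exact c'.r_eq (CarOp.Rel.restrict c.log c'.log (rO h) (rM Ω' h) (rM_smul Ω' h) (rM_δ h) (c.rel_r y hy))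

variable (D : DeRhamSh.Cx f Ω' δ)

/-- The Cartier operator on the sections of the complex. -/
noncomputable def Ch.rS (i : ℕ) : (D.K.X i).obj.obj (op V) →+ (D.K.X i).obj.obj (op V) :=
  (sec D i c.U).toAddMonoidHom.comp ((AddMonoidHom.mk' (fun y : ↥(⋀[Γ(X, V)]^i Γ(Ω', V)) =>
    (⟨c.r y.1, c.r_mem i y.1 y.2⟩ : ↥(⋀[Γ(X, V)]^i Γ(Ω', V)))) (fun a b => Subtype.ext (map_add c.r a.1 b.1))).comp
      (sec D i c.U).symm.toAddMonoidHom)

theorem Ch.rS_sec (i : ℕ) (y : ↥(⋀[Γ(X, V)]^i Γ(Ω', V))) :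
    c.rS D i (sec D i c.U y) = sec D i c.U ⟨c.r y.1, c.r_mem i y.1 y.2⟩ := by
  change sec D i c.U ⟨c.r ((sec D i c.U).symm (sec D i c.U y)).1, _⟩ = _
  congr 1
  apply Subtype.ext
  change c.r ((sec D i c.U).symm (sec D i c.U y)).1 = c.r y.1
  rw [AddEquiv.symm_apply_apply]

theorem Ch.closed (i : ℕ) (y : ↥(⋀[Γ(X, V)]^i Γ(Ω', V))) :
    (D.K.d i (i + 1)).hom.app (op V) (sec D i c.U y) = 0 ↔ c.d y.1 = 0 := by
  have h1 := sec_d D i c.U c.isDR c.hspan y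
  constructor
  · intro h
    have h3 := (sec D (i + 1) c.U).map_eq_zero_iff.1 (h1.symm.trans h)
    exact congrArg Subtype.val h3
  · intro h
    refine h1.trans ?_
    exact (sec D (i + 1) c.U).map_eq_zero_iff.2 (Subtype.ext h)

theorem closed_next (i : ℕ) (y : (D.K.X i).obj.obj (op V)) :
    (D.K.sc i).g.hom.app (op V) y = 0 ↔ (D.K.d i (i + 1)).hom.app (op V) y = 0 := by
  have hn : (ComplexShape.up ℕ).next i = i + 1 := CochainComplex.next ℕ i
  change (D.K.d i ((ComplexShape.up ℕ).next i)).hom.app (op V) y = 0 ↔ _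
  rw [hn]

/-- The data of the Cartier isomorphism. -/
noncomputable def dat (i : ℕ) : Dat (D.K.sc i) (D.K.X i) (chs p δ n) where
  c V := (chart p δ n V).rS D i
  nat V W g y hy := by
    have h : W.1 ≤ V.1 := g.le
    have hg : g = homOfLE h := Subsingleton.elim _ _
    subst hg
    obtain ⟨Y, rfl⟩ := (sec D i (chart p δ n V).U).surjective y
    have h1 := ((chart p δ n V).closed D i Y).1 ((closed_next D i _).1 hy)
    have h2 := sec_res D i (chart p δ n V).U (chart p δ n W).U h Y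
    have h3 := sec_res D i (chart p δ n V).U (chart p δ n W).U h
      ⟨(chart p δ n V).r Y.1, (chart p δ n V).r_mem i Y.1 Y.2⟩
    refine (congrArg ((chart p δ n W).rS D i) h2).trans ?_
    refine ((chart p δ n W).rS_sec D i _).trans ?_
    refine Eq.trans ?_ (h3.symm.trans (congrArg ((D.K.X i).obj.map (homOfLE h).op)
      ((chart p δ n V).rS_sec D i Y).symm))
    congr 1
    exact Subtype.ext ((chart p δ n V).r_res (chart p δ n W) h Y.1 h1)
  surj V y := by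
    obtain ⟨Y, rfl⟩ := (sec D i (chart p δ n V).U).surjective y
    obtain ⟨z, hz, hz2, hz3⟩ := (chart p δ n V).r_surj i Y.1 Y.2
    refine ⟨sec D i (chart p δ n V).U ⟨z, hz⟩, (closed_next D i _).2 (((chart p δ n V).closed D i _).2 hz2), ?_⟩
    refine ((chart p δ n V).rS_sec D i _).trans ?_
    congr 1
    exact Subtype.ext hz3
  inj V y hy hry := by
    obtain ⟨Y, rfl⟩ := (sec D i (chart p δ n V).U).surjective y
    have h1 := ((chart p δ n V).closed D i Y).1 ((closed_next D i _).1 hy)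
    have h2 : (chart p δ n V).r Y.1 = 0 := by
      have h3 := ((chart p δ n V).rS_sec D i Y).symm.trans hry
      exact congrArg Subtype.val ((sec D i (chart p δ n V).U).map_eq_zero_iff.1 h3)
    cases i with
    | zero =>
      refine ⟨0, ?_⟩
      have h4 : Y = 0 := Subtype.ext ((chart p δ n V).r_zero Y.1 Y.2 h1 h2)
      rw [h4]
      exact (map_zero ((D.K.sc 0).f.hom.app (op V.1)).hom).trans (map_zero (sec D 0 (chart p δ n V).U)).symm
    | succ m =>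
      obtain ⟨w, hw, hw2⟩ := (chart p δ n V).r_exact m Y.1 Y.2 h1 h2
      have hp : (ComplexShape.up ℕ).prev (m + 1) = m := CochainComplex.prev_nat_succ m
      change ∃ w : (D.K.X ((ComplexShape.up ℕ).prev (m + 1))).obj.obj (op V.1),
        (D.K.d ((ComplexShape.up ℕ).prev (m + 1)) (m + 1)).hom.app (op V.1) w = _
      rw [hp]
      refine ⟨sec D m (chart p δ n V).U ⟨w, hw⟩, ?_⟩
      refine (sec_d D m (chart p δ n V).U (chart p δ n V).isDR (chart p δ n V).hspan _).trans ?_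
      congr 1
      exact Subtype.ext hw2
  zero V w := by
    cases i with
    | zero =>
      have h0 : (D.K.sc 0).f = 0 := D.K.shape _ _ (by simp)
      rw [h0]
      exact map_zero _
    | succ m =>
      have hp : (ComplexShape.up ℕ).prev (m + 1) = m := CochainComplex.prev_nat_succ m
      change (chart p δ n V).rS D (m + 1)
        ((D.K.d ((ComplexShape.up ℕ).prev (m + 1)) (m + 1)).hom.app (op V.1) w) = 0
      change (D.K.X ((ComplexShape.up ℕ).prev (m + 1))).obj.obj (op V.1) at w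
      revert w
      rw [hp]
      intro w
      obtain ⟨Y, rfl⟩ := (sec D m (chart p δ n V).U).surjective w
      refine (congrArg ((chart p δ n V).rS D (m + 1))
        (sec_d D m (chart p δ n V).U (chart p δ n V).isDR (chart p δ n V).hspan Y)).trans ?_
      refine ((chart p δ n V).rS_sec D (m + 1) _).trans ?_
      refine (sec D (m + 1) (chart p δ n V).U).map_eq_zero_iff.2 (Subtype.ext ?_)
      exact (chart p δ n V).r_d Y.1

end charts

section cover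

variable {p : ℕ} [hp : Fact p.Prime] {k : Type u} [Field k] [CharP k p] [PerfectRing k p] {X : Scheme.{u}}
  [X.Over (Spec (CommRingCat.of k))]

variable {Ω' : X.Modules} {δ : OmegaSh.Der (X ↘ Spec (CommRingCat.of k)) Ω'}

/-- **Local existence of charts.** -/
theorem exists_ch (n : ℕ) [SmoothOfRelativeDimension n (X ↘ Spec (CommRingCat.of k))] (hδ : OmegaSh.IsUniversal δ)
    (U : X.Opens) (x : X) (hx : x ∈ U) : ∃ V ∈ chs p δ n, x ∈ V ∧ V ≤ U := by
  obtain ⟨U₁, v, hx₁, hU₁, hv⟩ := K922.Coord.exists_isCoord_of_rel (X ↘ Spec (CommRingCat.of k)) n hx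
  obtain ⟨W, h, V, e, -, hxW, het⟩ := hv x U₁.1 le_rfl hx₁
  refine ⟨W.1, ?_, hxW, h.trans hU₁⟩
  have : Nonempty W.1 := ⟨⟨x, hxW⟩⟩
  have hch : CharP Γ(X, W.1) p := K904.GeoDt.charP_sec p k W.1
  letI := K904.GeoUp.alg (X ↘ Spec (CommRingCat.of k)) W.1
  have hcoord := K904.GeoCh.coord_etale_of V.1 e _ het
  have hb := (hv.restrict h).isLocBasis (K922.Univ.affUniv hδ)
  have hbe : ∀ j, hb.basis le_rfl j = K922.DSec.dS δ W.1 (Groth.Agent.Sga67.Sec.resO X h (v j)) := fun j => by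
    rw [hb.basis_apply, Groth.Agent.Sga67.Sec.res_self]
  have hpb : LocalCartier.IsPBasis p (fun j => Groth.Agent.Sga67.Sec.resO X h (v j)) :=
    PBasis.isPBasis_of_etale_coord p (k := k) _ hcoord
  exact ⟨⟨W.2, hch, _, hb.basis le_rfl, ⟨hpb, δ_mul W.1, fun _ hj => hj.elim, fun j _ => (hbe j).symm⟩⟩⟩

end cover

end K173.GeoCar
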