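import Groth.Agent.DelIll.K173.CarOp

/-!
# The Cartier operator in the top degree: the pairing `(a, ω) ↦ C (a ω)` is perfect
-/

set_option autoImplicit false
set_option linter.unusedSectionVars false

open ExteriorAlgebra K904 K905.TotM K905.TotPhi Module

namespace K173.TopPair

open K173.CarOp

variable {p : ℕ} [hp : Fact p.Prime] {A L J : Type*} [CommRing A] [CharP A p] [PZ p A] [AddCommGroup L] [Module A L]
  [LinearOrder J] [Fintype J] {δ : A →+ L} {x : J → A} {e : Basis J A L}

/-- `p⁻¹`-linear maps agreeing on the monomials of a `p`-basis agree. -/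
theorem ext_of_mon {M : Type*} [AddCommGroup M] [Module A M] (hx : LocalCartier.IsPBasis p x) (f g : A →+ M)
    (hf : ∀ a b, f (a ^ p * b) = a • f b) (hg : ∀ a b, g (a ^ p * b) = a • g b)
    (h : ∀ m, f (LocalCartier.mon x m) = g (LocalCartier.mon x m)) (a : A) : f a = g a := by
  obtain ⟨β, rfl⟩ := hx.2 a
  simp only [map_sum]
  exact Finset.sum_congr rfl fun a _ => by rw [hf, hg, h]

section chart

variable (h : LocalCartier.LogChart p (fun _ : J => False) x δ e)
include h

theorem δ_one : δ (1 : A) = 0 := by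
  have := h.leib 1 1
  rw [one_mul, one_smul] at this
  exact left_eq_add.1 this

theorem d_ιMulti {n : ℕ} (w : Fin n → J) : LocalCartier.d δ e (ιMulti A n (fun i => e (w i))) = 0 := by
  have h1 := (isDR h).rule (n := n) 1 (fun i => x (w i))
  rw [one_smul, δ_one h] at h1
  have h2 : (fun i => e (w i)) = fun i => δ (x (w i)) := funext fun i => (h.plain (w i) not_false).symm
  rw [h2, h1]
  exact AlternatingMap.map_coord_zero _ (i := 0) rfl

theorem d_ι_mul (j : J) (z : ExteriorAlgebra A L) (hz : LocalCartier.d δ e z = 0) :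
    LocalCartier.d δ e (ι A (e j) * z) = 0 := by
  rw [(isDR h).mul, DR.d_ι_e h, zero_mul, hz, mul_zero, add_zero]

theorem d_C (j : J) {n : ℕ} (w : Fin n → J) :
    LocalCartier.d δ e (Ext.C (e.coord j) (ιMulti A n (fun i => e (w i)))) = 0 := by
  induction n with
  | zero => rw [ιMulti_zero_apply, Ext.C_one, map_zero]
  | succ n ih =>
    rw [ιMulti_succ_apply, Ext.C_ι_mul, map_sub]
    have h1 : Matrix.vecTail (fun i => e (w i)) = fun i => e (w i.succ) := rfl
    rw [h1, d_ι_mul h _ _ (ih _), sub_zero]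
    by_cases hj : w 0 = j
    · rw [hj, Basis.coord_apply, Basis.repr_self, Finsupp.single_eq_same, one_smul]
      exact d_ιMulti h _
    · rw [Basis.coord_apply, Basis.repr_self, Finsupp.single_eq_of_ne (fun h => hj h.symm), zero_smul, map_zero]

/-- the top form -/
theorem d_C_univ (j : J) : LocalCartier.d δ e (Ext.C (e.coord j) (e.ExteriorAlgebra Finset.univ)) = 0 := by
  obtain ⟨n, v, h1, -⟩ := Ext.exists_basis_eq e Finset.univ
  rw [h1]
  exact d_C h j v

theorem d_smul_C_univ (j : J) (b : A) :
    LocalCartier.d δ e (b • Ext.C (e.coord j) (e.ExteriorAlgebra Finset.univ)) =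
      LocalCartier.θ δ e j b • e.ExteriorAlgebra Finset.univ := by
  rw [DR.d_smul h, d_C_univ h, smul_zero, add_zero]
  conv_lhs => rw [← e.sum_repr (δ b), map_sum, Finset.sum_mul]
  rw [Finset.sum_eq_single j]
  · rw [map_smul, smul_mul_assoc]
    have h1 := Ext.EC_basis e Finset.univ j
    rw [if_pos (Finset.mem_univ j)] at h1
    change e.repr (δ b) j • (Ext.E (A := A) (e j) * Ext.C (e.coord j)) (e.ExteriorAlgebra Finset.univ) = _
    rw [h1]
    rfl
  · intro i _ hij
    rw [map_smul, smul_mul_assoc]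
    have h1 := LinearMap.congr_fun (Ext.CE_anti e j i hij.symm) (e.ExteriorAlgebra Finset.univ)
    have h2 : (Ext.C (e.coord j) * Ext.E (A := A) (e i)) (e.ExteriorAlgebra Finset.univ) = 0 := by
      change Ext.C (e.coord j) (Ext.E (e i) (e.ExteriorAlgebra Finset.univ)) = 0
      rw [Ext.E_basis e _ i (Finset.mem_univ i), map_zero]
    rw [LinearMap.add_apply, h2, zero_add] at h1
    change e.repr (δ b) i • (Ext.E (A := A) (e i) * Ext.C (e.coord j)) (e.ExteriorAlgebra Finset.univ) = 0
    rw [h1]
    exact smul_zero _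
  · intro hj
    exact absurd (Finset.mem_univ j) hj

/-- The exterior power of the top degree is free of rank one. -/
theorem exists_of_mem_top {y : ExteriorAlgebra A L} (hy : y ∈ ⋀[A]^(Fintype.card J) L) :
    ∃ c : A, y = c • e.ExteriorAlgebra Finset.univ := by
  obtain ⟨c, hc⟩ := LocalCartier.mem_degree e _ y hy
  have hs : ∀ s : Set.powersetCard J (Fintype.card J), s.1 = Finset.univ := fun s =>
    (Finset.card_eq_iff_eq_univ s.1).1 s.2
  refine ⟨∑ s, c s, ?_⟩
  rw [hc, Finset.sum_smul]
  exact Finset.sum_congr rfl fun s _ => by rw [hs s]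

omit h in
theorem smul_top_injective {a b : A} (hab : a • e.ExteriorAlgebra Finset.univ = b • e.ExteriorAlgebra Finset.univ) :
    a = b := by
  have h1 := congrArg (fun z => e.ExteriorAlgebra.repr z Finset.univ) hab
  simpa using h1

omit h in
theorem top_mem : e.ExteriorAlgebra Finset.univ ∈ ⋀[A]^(Fintype.card J) L :=
  LocalCartier.basis_mem_degree e Finset.univ Finset.card_univ

/-- In the top degree everything is closed. -/
theorem d_top {y : ExteriorAlgebra A L} (hy : y ∈ ⋀[A]^(Fintype.card J) L) : LocalCartier.d δ e y = 0 := by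
  obtain ⟨c, rfl⟩ := exists_of_mem_top h hy
  rw [LocalCartier.d, Iso.dd_basis]
  refine Finset.sum_eq_zero fun j _ => ?_
  have := Ext.E_basis e Finset.univ j (Finset.mem_univ j)
  rw [Ext.E_apply] at this
  rw [this, smul_zero]

section pairing

variable {r : ExteriorAlgebra A L →+ ExteriorAlgebra A L}
  (hr1 : ∀ y z, Rel p h.leib (LocalCartier.d δ e) y z → r y = z)
  (hr2 : ∀ y, r (LocalCartier.d δ e y) = 0)
  (hr3 : ∀ (b : A) y, r (b ^ p • y) = b • r y)
  (hr4 : ∀ n, ∀ y ∈ ⋀[A]^n L, r y ∈ ⋀[A]^n L)

variable (e r) in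
omit [CharP A p] [PZ p A] h in
/-- The Cartier operator on functions given by the top form. -/
noncomputable def rho : A →+ A where
  toFun b := e.ExteriorAlgebra.repr (r (b • e.ExteriorAlgebra Finset.univ)) Finset.univ
  map_zero' := by simp
  map_add' a b := by rw [add_smul, map_add, map_add, Finsupp.add_apply]

include hr4 in
theorem r_smul_top (b : A) : r (b • e.ExteriorAlgebra Finset.univ) = rho e r b • e.ExteriorAlgebra Finset.univ := by
  obtain ⟨c, hc⟩ := exists_of_mem_top h (hr4 _ _ (Submodule.smul_mem _ b top_mem))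
  have : rho e r b = c := by
    change e.ExteriorAlgebra.repr (r (b • e.ExteriorAlgebra Finset.univ)) Finset.univ = c
    rw [hc]
    simp
  rw [this, hc]

omit [PZ p A] h in
include hr3 in
theorem rho_pow_mul (b c : A) : rho e r (b ^ p * c) = b * rho e r c := by
  change e.ExteriorAlgebra.repr (r ((b ^ p * c) • e.ExteriorAlgebra Finset.univ)) Finset.univ =
    b * e.ExteriorAlgebra.repr (r (c • e.ExteriorAlgebra Finset.univ)) Finset.univ
  rw [mul_smul, hr3, map_smul, Finsupp.smul_apply, smul_eq_mul]

include hr2 in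
theorem rho_θ (j : J) (b : A) : rho e r (LocalCartier.θ δ e j b) = 0 := by
  change e.ExteriorAlgebra.repr (r (LocalCartier.θ δ e j b • e.ExteriorAlgebra Finset.univ)) Finset.univ = 0
  rw [← d_smul_C_univ h, hr2, map_zero, Finsupp.zero_apply]

include hr2 in
theorem rho_mon (m : J → ℕ) (j : J) (hj : ¬ p ∣ m j + 1) : rho e r (LocalCartier.mon x m) = 0 := by
  have h1 := rho_θ h hr2 j (LocalCartier.mon x (Function.update m j (m j + 1)))
  rw [LocalCartier.θ_mon h, if_neg not_false, Function.update_self, Nat.add_sub_cancel, Function.update_idem,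
    Function.update_eq_self, ← nsmul_eq_mul, map_nsmul] at h1
  have h2 : Nat.Coprime (m j + 1) p := ((Nat.Prime.coprime_iff_not_dvd hp.1).2 hj).symm
  obtain ⟨u, -, hu⟩ := Nat.exists_mul_mod_eq_one_of_coprime h2 hp.1.one_lt
  have h3 : ((m j + 1 : ℕ) : A) * (u : A) = 1 := by
    rw [← Nat.cast_mul, ← Nat.mod_add_div ((m j + 1) * u) p, hu]
    simp
  have h4 : (m j + 1) • rho e r (LocalCartier.mon x m) = ((m j + 1 : ℕ) : A) * rho e r (LocalCartier.mon x m) :=
    nsmul_eq_mul _ _
  rw [h4] at h1
  calc rho e r (LocalCartier.mon x m) = (((m j + 1 : ℕ) : A) * (u : A)) * rho e r (LocalCartier.mon x m) := by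
        rw [h3, one_mul]
    _ = (u : A) * (((m j + 1 : ℕ) : A) * rho e r (LocalCartier.mon x m)) := by ring
    _ = 0 := by rw [h1, mul_zero]

include hr1 in
theorem rho_mon_top : rho e r (LocalCartier.mon x (fun _ => p - 1)) = 1 := by
  have h1 : Rel p h.leib (LocalCartier.d δ e)
      (LocalCartier.mon x (fun _ => p - 1) • e.ExteriorAlgebra Finset.univ) (e.ExteriorAlgebra Finset.univ) := by
    refine ⟨ExteriorAlgebra.map (σA p x e) (e.ExteriorAlgebra Finset.univ), 0, ?_, (map_π_σ h _).symm⟩
    rw [FA_σ h, map_zero, add_zero, LocalCartier.cb_apply, LocalCartier.c0_basis]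
    have h0 : LocalCartier.mon x (0 : J → ℕ) = 1 := by
      rw [LocalCartier.mon]
      simp
    rw [h0, one_smul]
    simp only [if_false, LocalCartier.mon]
  change e.ExteriorAlgebra.repr (r (LocalCartier.mon x (fun _ => p - 1) • e.ExteriorAlgebra Finset.univ)) Finset.univ = 1
  rw [hr1 _ _ h1]
  simp

omit [PZ p A] [CharP A p] [Module A L] [AddCommGroup L] h hp in
theorem mon_mul (a b : J → ℕ) : LocalCartier.mon x a * LocalCartier.mon x b = LocalCartier.mon x (fun j => a j + b j) := by
  rw [LocalCartier.mon, LocalCartier.mon, LocalCartier.mon, ← Finset.prod_mul_distrib]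
  exact Finset.prod_congr rfl fun j _ => (pow_add _ _ _).symm

include hr1 hr2 in
theorem rho_mon_mul (a b : J → ZMod p) :
    rho e r (LocalCartier.mon x (fun j => (b j).val) * LocalCartier.mon x (fun j => p - 1 - (a j).val)) =
      if a = b then 1 else 0 := by
  rw [mon_mul]
  split_ifs with hab
  · subst hab
    have : (fun j => (a j).val + (p - 1 - (a j).val)) = fun _ => p - 1 := by
      funext j
      have := ZMod.val_lt (a j)
      omega
    rw [this]
    exact rho_mon_top h hr1
  · obtain ⟨j, hj⟩ := Function.ne_iff.1 hab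
    refine rho_mon h hr2 _ j ?_
    have h1 := ZMod.val_lt (a j)
    have h2 := ZMod.val_lt (b j)
    have h3 : (a j).val ≠ (b j).val := fun h => hj (ZMod.val_injective p h)
    have h4 : (b j).val + (p - 1 - (a j).val) + 1 = p + (b j).val - (a j).val := by omega
    rw [h4]
    intro hd
    obtain ⟨c, hc⟩ := hd
    rcases lt_or_gt_of_ne h3 with h5 | h5
    · -- p < p + b - a < 2p
      rcases Nat.lt_or_ge c 2 with hc2 | hc2
      · interval_cases c <;> omega
      · have : p * 2 ≤ p * c := Nat.mul_le_mul_left p hc2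
        omega
    · rcases Nat.eq_zero_or_pos c with hc2 | hc2
      · subst hc2; omega
      · have : p * 1 ≤ p * c := Nat.mul_le_mul_left p hc2
        omega

include hr1 hr2 hr3 in
/-- **The pairing is perfect.** -/
theorem existsUnique_rho (s : A →+ A) (hs : ∀ a b, s (a ^ p * b) = a * s b) (c : A) :
    ∃! g : A, ∀ a, rho e r (a * g) = s a * c := by
  have hmon : ∀ (s : A →+ A), (∀ a b, s (a ^ p * b) = a * s b) → ∀ (g : A),
      (∀ b : J → ZMod p, rho e r (LocalCartier.mon x (fun j => (b j).val) * g) =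
        s (LocalCartier.mon x (fun j => (b j).val)) * c) → ∀ a, rho e r (a * g) = s a * c := by
    intro s hs g hg a
    obtain ⟨β, rfl⟩ := h.pbasis.2 a
    simp only [Finset.sum_mul, map_sum]
    refine Finset.sum_congr rfl fun b _ => ?_
    rw [mul_assoc, rho_pow_mul hr3, hg, hs, mul_assoc]
  refine ⟨∑ a : J → ZMod p, (c * s (LocalCartier.mon x (fun j => (a j).val))) ^ p *
    LocalCartier.mon x (fun j => p - 1 - (a j).val), hmon s hs _ fun b => ?_, fun g hg => ?_⟩
  · rw [Finset.mul_sum, map_sum, Finset.sum_eq_single b]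
    · rw [mul_left_comm, rho_pow_mul hr3, rho_mon_mul h hr1 hr2, if_pos rfl, mul_one, mul_comm]
    · intro a _ hab
      rw [mul_left_comm, rho_pow_mul hr3, rho_mon_mul h hr1 hr2, if_neg hab, mul_zero]
    · intro hb
      exact absurd (Finset.mem_univ b) hb
  · -- uniqueness
    obtain ⟨γ, rfl⟩ := h.pbasis.2 g
    set g' := ∑ a : J → ZMod p, (c * s (LocalCartier.mon x (fun j => (a j).val))) ^ p *
      LocalCartier.mon x (fun j => p - 1 - (a j).val) with hg'
    -- coefficients of an element through `rho`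
    have hcoef : ∀ (γ : (J → ZMod p) → A) (b : J → ZMod p),
        rho e r (LocalCartier.mon x (fun j => p - 1 - (b j).val) *
          ∑ a, γ a ^ p * LocalCartier.mon x (fun j => (a j).val)) = γ b := by
      intro γ b
      rw [Finset.mul_sum, map_sum, Finset.sum_eq_single b]
      · rw [mul_left_comm, rho_pow_mul hr3, mul_comm (LocalCartier.mon x (fun j => p - 1 - (b j).val)),
          rho_mon_mul h hr1 hr2, if_pos rfl, mul_one]
      · intro a _ hab
        rw [mul_left_comm, rho_pow_mul hr3, mul_comm (LocalCartier.mon x (fun j => p - 1 - (b j).val)),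
          rho_mon_mul h hr1 hr2, if_neg fun h => hab h.symm, mul_zero]
      · intro hb
        exact absurd (Finset.mem_univ b) hb
    have hg'' : ∀ a, rho e r (a * g') = s a * c := hmon s hs _ fun b => by
      rw [hg', Finset.mul_sum, map_sum, Finset.sum_eq_single b]
      · rw [mul_left_comm, rho_pow_mul hr3, rho_mon_mul h hr1 hr2, if_pos rfl, mul_one, mul_comm]
      · intro a _ hab
        rw [mul_left_comm, rho_pow_mul hr3, rho_mon_mul h hr1 hr2, if_neg hab, mul_zero]
      · intro hb
        exact absurd (Finset.mem_univ b) hb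
    obtain ⟨γ', hγ'⟩ := h.pbasis.2 g'
    have : γ = γ' := by
      funext b
      rw [← hcoef γ b, ← hcoef γ' b, hg]
      change _ = rho e r (_ * (fun β : (J → ZMod p) → A => ∑ a, β a ^ p * LocalCartier.mon x (fun j => (a j).val)) γ')
      rw [hγ', hg'']
    rw [this]
    exact hγ'

include hr1 hr2 hr3 hr4 in
/-- The same for forms. -/
theorem existsUnique_top (s : A →+ A) (hs : ∀ a b, s (a ^ p * b) = a * s b) (η : ↥(⋀[A]^(Fintype.card J) L)) :
    ∃! ω : ↥(⋀[A]^(Fintype.card J) L), ∀ a : A, r ((a • ω : ↥(⋀[A]^(Fintype.card J) L)) : ExteriorAlgebra A L) =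
      s a • (η : ExteriorAlgebra A L) := by
  obtain ⟨c, hc⟩ := exists_of_mem_top h η.2
  obtain ⟨g, hg, hu⟩ := existsUnique_rho h hr1 hr2 hr3 s hs c
  refine ⟨⟨g • e.ExteriorAlgebra Finset.univ, Submodule.smul_mem _ g top_mem⟩, fun a => ?_, fun ω hω => ?_⟩
  · change r (a • g • e.ExteriorAlgebra Finset.univ) = s a • (η : ExteriorAlgebra A L)
    rw [smul_smul, r_smul_top h hr4, hg, hc, smul_smul]
  · obtain ⟨g', hg'⟩ := exists_of_mem_top h ω.2
    apply Subtype.ext
    rw [hg']
    congr 1
    refine hu g' fun a => ?_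
    apply smul_top_injective (e := e)
    rw [← r_smul_top h hr4, mul_smul, ← hg', ← smul_smul, ← hc]
    exact hω a

end pairing

end chart

end K173.TopPair
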