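import Groth.Agent.DelIll.K173.GeoCar
import Groth.Agent.DelIll.K173.TopPair
import Groth.Prelude.Def_KLinDR

/-!
# The Cartier isomorphism: scalars, degree zero, and the top degree
-/

set_option autoImplicit false
set_option linter.style.haveILetI false
set_option linter.unusedSectionVars false
universe u u'

open CategoryTheory CategoryTheory.Limits AlgebraicGeometry Opposite TopologicalSpace K904 K905.TotPhi K905.TotM
open K905.GeoPhi K173.CarOp K173.BasisIso Module K173.GeoCar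

namespace K173.GeoTop

variable {p : ℕ} [hp : Fact p.Prime] {X S : Scheme.{u}} {f : X ⟶ S} {Ω' : X.Modules} {δ : OmegaSh.Der f Ω'} {n : ℕ}
  (hB : ∀ (U : Opens X) (x : X), x ∈ U → ∃ V ∈ chs p δ n, x ∈ V ∧ V ≤ U) (D : DeRhamSh.Cx f Ω' δ)

/-- **The Cartier isomorphism.** -/
noncomputable def C (i : ℕ) : D.K.homology i ≅ D.K.X i := BasisIso.iso hB (dat D i)

theorem C_app (i : ℕ) (V : chs p δ n) (z : (D.K.cycles i).obj.obj (op V.1)) :
    (D.K.homologyπ i ≫ (C hB D i).hom).hom.app (op V.1) z =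
      (chart p δ n V).rS D i ((D.K.iCycles i).hom.app (op V.1) z) := by
  have h1 : D.K.homologyπ i ≫ (C hB D i).hom = cyc hB (dat D i) := π_iso_hom hB (dat D i)
  rw [h1]
  exact cyc_app hB (dat D i) V z

/-- The action of functions on the sections of the complex. -/
noncomputable def act (i : ℕ) (U : X.affineOpens) (a : Γ(X, U.1)) (z : (D.K.X i).obj.obj (op U.1)) :
    (D.K.X i).obj.obj (op U.1) := sec D i U (a • (sec D i U).symm z)

theorem act_sec (i : ℕ) (U : X.affineOpens) (a : Γ(X, U.1)) (y : ↥(⋀[Γ(X, U.1)]^i Γ(Ω', U.1))) :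
    act D i U a (sec D i U y) = sec D i U (a • y) := by
  rw [act, AddEquiv.symm_apply_apply]

section scalar

variable {k : Type u'} [CommRing k] {c : k →+* Coh.Γtop X}

theorem scalarEnd_sec (a : k) (i : ℕ) (U : X.affineOpens) (y : ↥(⋀[Γ(X, U.1)]^i Γ(Ω', U.1))) :
    (KLinDR.scalarEnd c D.term D.iso a i).hom.app (op U.1) (sec D i U y) =
      sec D i U ((show Γ(X, U.1) from Coh.resTop X (op U.1) (c a)) • y) := by
  change (D.iso i).inv.hom.app (op U.1) ((Coh.smulAb (D.term i) (c a)).hom.app (op U.1)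
    ((D.iso i).hom.hom.app (op U.1) ((D.iso i).inv.hom.app (op U.1) ((D.loc i U).symm y)))) =
    (D.iso i).inv.hom.app (op U.1) ((D.loc i U).symm _)
  have h : (D.iso i).hom.hom.app (op U.1) ((D.iso i).inv.hom.app (op U.1) ((D.loc i U).symm y)) =
    (D.loc i U).symm y := congr($((D.iso i).inv_hom_id).hom.app (op U.1) ((D.loc i U).symm y))
  refine (congrArg (fun t => (D.iso i).inv.hom.app (op U.1) ((Coh.smulAb (D.term i) (c a)).hom.app (op U.1) t)) h).trans ?_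
  congr 1
  rw [map_smul]
  rfl

theorem hC (h : KLinDR.TermwiseLinear c D.K D.term D.iso) (i : ℕ) (a : k) :
    HomologicalComplex.homologyMap (KLinDR.scalarN h (a ^ p) : D.K ⟶ D.K) i ≫ (C hB D i).hom =
      (C hB D i).hom ≫ HomologicalComplex.Hom.f (A := D.K) (B := D.K) (KLinDR.scalarN h a) i := by
  rw [← cancel_epi (D.K.homologyπ i), HomologicalComplex.homologyπ_naturality_assoc]
  refine hom_ext hB fun V hV z => ?_
  have e1 : (D.K.iCycles i).hom.app (op V)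
      ((HomologicalComplex.cyclesMap (KLinDR.scalarN h (a ^ p) : D.K ⟶ D.K) i).hom.app (op V) z) =
      (KLinDR.scalarEnd c D.term D.iso (a ^ p) i).hom.app (op V) ((D.K.iCycles i).hom.app (op V) z) :=
    congr($(HomologicalComplex.cyclesMap_i (KLinDR.scalarN h (a ^ p) : D.K ⟶ D.K) i).hom.app (op V) z)
  have e2 := C_app hB D i ⟨V, hV⟩
    ((HomologicalComplex.cyclesMap (KLinDR.scalarN h (a ^ p) : D.K ⟶ D.K) i).hom.app (op V) z)
  have e3 := C_app hB D i ⟨V, hV⟩ z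
  refine e2.trans ?_
  refine Eq.trans ?_ (congrArg ((KLinDR.scalarEnd c D.term D.iso a i).hom.app (op V)) e3.symm)
  refine (congrArg ((chart p δ n ⟨V, hV⟩).rS D i) e1).trans ?_
  obtain ⟨Y, hY⟩ := (sec D i (chart p δ n ⟨V, hV⟩).U).surjective ((D.K.iCycles i).hom.app (op V) z)
  rw [← hY]
  refine (congrArg ((chart p δ n ⟨V, hV⟩).rS D i) (scalarEnd_sec D (a ^ p) i (chart p δ n ⟨V, hV⟩).U Y)).trans ?_
  refine ((chart p δ n ⟨V, hV⟩).rS_sec D i _).trans ?_
  refine Eq.trans ?_ (congrArg ((KLinDR.scalarEnd c D.term D.iso a i).hom.app (op V))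
    ((chart p δ n ⟨V, hV⟩).rS_sec D i Y).symm)
  refine Eq.trans ?_ (scalarEnd_sec D a i (chart p δ n ⟨V, hV⟩).U _).symm
  congr 1
  apply Subtype.ext
  change (chart p δ n ⟨V, hV⟩).r ((show Γ(X, V) from Coh.resTop X (op V) (c (a ^ p))) • Y.1) =
    (show Γ(X, V) from Coh.resTop X (op V) (c a)) • (chart p δ n ⟨V, hV⟩).r Y.1
  rw [← (chart p δ n ⟨V, hV⟩).r_smul]
  congr 2
  exact (congrArg (Coh.resTop X (op V)) (map_pow c a p)).trans (map_pow (Coh.resTop X (op V)) (c a) p)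

end scalar

section zero

/-- functions are forms of degree zero -/
noncomputable def j0V (U : X.affineOpens) : Γ(X, U.1) →+ (D.K.X 0).obj.obj (op U.1) :=
  (sec D 0 U).toAddMonoidHom.comp (AddMonoidHom.mk' (fun b : Γ(X, U.1) =>
    (⟨algebraMap Γ(X, U.1) (ExteriorAlgebra Γ(X, U.1) Γ(Ω', U.1)) b, by
      rw [ExteriorAlgebra.exteriorPower, pow_zero, Submodule.mem_one]
      exact ⟨b, rfl⟩⟩ : ↥(⋀[Γ(X, U.1)]^0 Γ(Ω', U.1)))) (fun a b => Subtype.ext (map_add _ a b)))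

theorem j0V_bij (U : X.affineOpens) : Function.Bijective (j0V D U) := by
  refine (sec D 0 U).bijective.comp ⟨fun a b hab => ?_, fun y => ?_⟩
  · have h1 := congrArg Subtype.val hab
    exact (ExteriorAlgebra.algebraMap_leftInverse (Γ(Ω', U.1) : Type u)).injective h1
  · obtain ⟨y, hy⟩ := y
    have hy' := hy
    rw [ExteriorAlgebra.exteriorPower, pow_zero, Submodule.mem_one] at hy'
    obtain ⟨b, rfl⟩ := hy'
    exact ⟨b, rfl⟩

theorem j0V_res (U V : X.affineOpens) (h : V.1 ≤ U.1) (b : Γ(X, U.1)) :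
    (D.K.X 0).obj.map (homOfLE h).op (j0V D U b) = j0V D V (rO h b) := by
  refine (sec_res D 0 U V h _).trans ?_
  change sec D 0 V _ = sec D 0 V _
  congr 1
  exact Subtype.ext (Semi.extR_algebraMap _ _ _ b)

/-- the structure sheaf is the term of degree zero -/
noncomputable def j0 : Coh.toAb (Coh.structureModule X) ⟶ D.K.X 0 :=
  BasisIso.hom hB (fun V => j0V D (chart p δ n V).U) (fun V W g x => by
    have h : W.1 ≤ V.1 := g.le
    have hg : g = homOfLE h := Subsingleton.elim _ _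
    subst hg
    exact (j0V_res D (chart p δ n V).U (chart p δ n W).U h x).symm)

theorem j0_app (V : chs p δ n) (x : Γ(X, V.1)) :
    (j0 hB D).hom.app (op V.1) x = j0V D (chart p δ n V).U x :=
  hom_app hB (F := Coh.toAb (Coh.structureModule X)) (G := D.K.X 0) (fun V => j0V D (chart p δ n V).U) _ V x

theorem isIso_j0 : IsIso (j0 hB D) := by
  refine isIso_of_basis hB fun V hV => ?_
  have h1 : (fun x : Γ(X, V) => (j0 hB D).hom.app (op V) x) = j0V D (chart p δ n ⟨V, hV⟩).U := by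
    funext x
    exact j0_app hB D ⟨V, hV⟩ x
  change Function.Bijective (fun x : Γ(X, V) => (j0 hB D).hom.app (op V) x)
  rw [h1]
  exact j0V_bij D _

theorem Ch.r_algebraMap {V : X.Opens} (c : Ch p δ n V) (b : Γ(X, V)) :
    c.r (algebraMap _ _ (b ^ p)) = algebraMap _ _ b := by
  letI := c.ch
  letI := c.pz
  have h1 : c.r 1 = 1 := c.r_eq ⟨1, 0, by rw [map_one, map_zero, add_zero], (map_one _).symm⟩
  rw [Algebra.algebraMap_eq_smul_one, Algebra.algebraMap_eq_smul_one, c.r_smul, h1]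

variable (φ : Coh.toAb (Coh.structureModule X) ⟶ Coh.toAb (Coh.structureModule X))
  (hφ : ∀ (U : X.Opens) (t : Γ(X, U)), φ.hom.app (op U) t = t ^ p)

include hφ in
theorem φ_j0_app (V : chs p δ n) (x : Γ(X, V.1)) :
    (φ ≫ j0 hB D).hom.app (op V.1) x = sec D 0 (chart p δ n V).U
      ⟨algebraMap Γ(X, V.1) (ExteriorAlgebra Γ(X, V.1) Γ(Ω', V.1)) (x ^ p), by
        rw [ExteriorAlgebra.exteriorPower, pow_zero, Submodule.mem_one]
        exact ⟨_, rfl⟩⟩ := by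
  have h1 : (φ ≫ j0 hB D).hom.app (op V.1) x = (j0 hB D).hom.app (op V.1) (φ.hom.app (op V.1) x) := rfl
  rw [h1, hφ V.1 x]
  exact j0_app hB D V (x ^ p)

include hφ in
theorem φ_j0_d : (φ ≫ j0 hB D) ≫ D.K.d 0 1 = 0 := by
  refine hom_ext hB fun V hV x => ?_
  change (D.K.d 0 1).hom.app (op V) ((φ ≫ j0 hB D).hom.app (op V) x) = 0
  rw [φ_j0_app hB D φ hφ ⟨V, hV⟩ x]
  refine ((chart p δ n ⟨V, hV⟩).closed D 0 _).2 ?_
  letI := (chart p δ n ⟨V, hV⟩).ch
  letI := (chart p δ n ⟨V, hV⟩).pz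
  refine ((chart p δ n ⟨V, hV⟩).isDR.alg ((show Γ(X, V) from x) ^ p)).trans ?_
  rw [δ_pow_p p (δ_mul V), map_zero]

include hφ in
theorem lift_C0 : D.K.liftCycles (φ ≫ j0 hB D) 1 (CochainComplex.next ℕ 0) (φ_j0_d hB D φ hφ) ≫ D.K.homologyπ 0 ≫
    (C hB D 0).hom = j0 hB D := by
  refine hom_ext hB fun V hV x => ?_
  have e1 := C_app hB D 0 ⟨V, hV⟩ ((D.K.liftCycles (φ ≫ j0 hB D) 1 (CochainComplex.next ℕ 0)
    (φ_j0_d hB D φ hφ)).hom.app (op V) x)
  refine e1.trans ?_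
  have e2 : (D.K.iCycles 0).hom.app (op V) ((D.K.liftCycles (φ ≫ j0 hB D) 1 (CochainComplex.next ℕ 0)
      (φ_j0_d hB D φ hφ)).hom.app (op V) x) = (φ ≫ j0 hB D).hom.app (op V) x :=
    congr($(D.K.liftCycles_i (φ ≫ j0 hB D) 1 (CochainComplex.next ℕ 0) (φ_j0_d hB D φ hφ)).hom.app (op V) x)
  rw [e2, φ_j0_app hB D φ hφ ⟨V, hV⟩ x]
  refine ((chart p δ n ⟨V, hV⟩).rS_sec D 0 _).trans ?_
  refine Eq.trans ?_ (j0_app hB D ⟨V, hV⟩ x).symm
  change sec D 0 _ _ = sec D 0 _ _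
  congr 1
  exact Subtype.ext (Ch.r_algebraMap _ x)

end zero

section top

variable {V W : X.Opens} (c : Ch p δ n V)

theorem Ch.existsUnique (s : Γ(X, V) →+ Γ(X, V)) (hs : ∀ a b, s (a ^ p * b) = a * s b)
    (η : ↥(⋀[Γ(X, V)]^n Γ(Ω', V))) :
    ∃! ω : ↥(⋀[Γ(X, V)]^n Γ(Ω', V)), ∀ a : Γ(X, V), c.r (a • ω.1) = s a • η.1 := by
  letI := c.ch
  letI := c.pz
  have h := fun η => TopPair.existsUnique_top c.log (r := c.r) (fun y z hyz => c.r_eq hyz) c.r_d c.r_smul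
    (fun i y hy => c.r_mem i y hy) s hs η
  rw [Fintype.card_fin] at h
  exact h η

theorem Ch.d_top (y : ExteriorAlgebra Γ(X, V) Γ(Ω', V)) (hy : y ∈ ⋀[Γ(X, V)]^n Γ(Ω', V)) : c.d y = 0 := by
  letI := c.ch
  letI := c.pz
  refine TopPair.d_top c.log ?_
  rw [Fintype.card_fin]
  exact hy

/-- the homomorphism on sections -/
noncomputable def Ch.psi (s : Γ(X, V) →+ Γ(X, V)) (hs : ∀ a b, s (a ^ p * b) = a * s b) :
    ↥(⋀[Γ(X, V)]^n Γ(Ω', V)) →+ ↥(⋀[Γ(X, V)]^n Γ(Ω', V)) :=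
  AddMonoidHom.mk' (fun η => (Ch.existsUnique c s hs η).choose) (fun η ζ => by
    refine ((Ch.existsUnique c s hs (η + ζ)).choose_spec.2 _ fun a => ?_).symm
    have h1 := (Ch.existsUnique c s hs η).choose_spec.1 a
    have h2 := (Ch.existsUnique c s hs ζ).choose_spec.1 a
    change c.r (a • ((Ch.existsUnique c s hs η).choose.1 + (Ch.existsUnique c s hs ζ).choose.1)) =
      s a • (η.1 + ζ.1)
    rw [smul_add, map_add, h1, h2, smul_add])

theorem Ch.psi_spec (s : Γ(X, V) →+ Γ(X, V)) (hs : ∀ a b, s (a ^ p * b) = a * s b) (η : ↥(⋀[Γ(X, V)]^n Γ(Ω', V)))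
    (a : Γ(X, V)) : c.r (a • (Ch.psi c s hs η).1) = s a • η.1 := (Ch.existsUnique c s hs η).choose_spec.1 a

theorem Ch.psi_eq (s : Γ(X, V) →+ Γ(X, V)) (hs : ∀ a b, s (a ^ p * b) = a * s b) (η ω : ↥(⋀[Γ(X, V)]^n Γ(Ω', V)))
    (h : ∀ a : Γ(X, V), c.r (a • ω.1) = s a • η.1) : ω = Ch.psi c s hs η :=
  (Ch.existsUnique c s hs η).choose_spec.2 ω h

theorem mon_rO (h : W ≤ V) (x : Fin n → Γ(X, V)) (m : Fin n → ℕ) :
    LocalCartier.mon (fun j => rO h (x j)) m = rO h (LocalCartier.mon x m) := by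
  rw [LocalCartier.mon, LocalCartier.mon, map_prod]
  exact Finset.prod_congr rfl fun j _ => (map_pow _ _ _).symm

theorem Ch.psi_res (c' : Ch p δ n W) (h : W ≤ V) (s : Γ(X, V) →+ Γ(X, V)) (hs : ∀ a b, s (a ^ p * b) = a * s b)
    (s' : Γ(X, W) →+ Γ(X, W)) (hs' : ∀ a b, s' (a ^ p * b) = a * s' b) (hss : ∀ a, s' (rO h a) = rO h (s a))
    (η : ↥(⋀[Γ(X, V)]^n Γ(Ω', V))) :
    Semi.extR (rO h) (rM Ω' h) (rM_smul Ω' h) (Ch.psi c s hs η).1 =
      (Ch.psi c' s' hs' ⟨Semi.extR (rO h) (rM Ω' h) (rM_smul Ω' h) η.1, Semi.extR_mem _ _ _ _ _ η.2⟩).1 := by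
  letI := c.ch
  letI := c'.ch
  letI := c'.pz
  refine congrArg Subtype.val (Ch.psi_eq c' s' hs' _
    ⟨Semi.extR (rO h) (rM Ω' h) (rM_smul Ω' h) (Ch.psi c s hs η).1, Semi.extR_mem _ _ _ _ _ (Ch.psi c s hs η).2⟩ ?_)
  have hx : LocalCartier.IsPBasis p (fun j => rO h (c.x j)) :=
    PBasis.isPBasis_of_etale p (rO h) (K904.GeoCh.etale_resO c.aff c'.aff h) c.x c.log.pbasis
  let E : ExteriorAlgebra Γ(X, W) Γ(Ω', W) := Semi.extR (rO h) (rM Ω' h) (rM_smul Ω' h) (Ch.psi c s hs η).1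
  let E' : ExteriorAlgebra Γ(X, W) Γ(Ω', W) := Semi.extR (rO h) (rM Ω' h) (rM_smul Ω' h) η.1
  let F : Γ(X, W) →+ ExteriorAlgebra Γ(X, W) Γ(Ω', W) :=
    c'.r.comp (AddMonoidHom.mk' (fun a : Γ(X, W) => a • E) (fun a b => add_smul a b _))
  let G : Γ(X, W) →+ ExteriorAlgebra Γ(X, W) Γ(Ω', W) :=
    (AddMonoidHom.mk' (fun a : Γ(X, W) => a • E') (fun a b => add_smul a b _)).comp s'
  refine TopPair.ext_of_mon hx F G (fun a b => ?_) (fun a b => ?_) (fun m => ?_)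
  · change c'.r ((a ^ p * b) • E) = a • c'.r (b • E)
    rw [mul_smul, c'.r_smul]
  · change s' (a ^ p * b) • E' = a • (s' b • E')
    rw [hs', mul_smul]
  · rw [mon_rO]
    change c'.r (rO h (LocalCartier.mon c.x m) • E) = s' (rO h (LocalCartier.mon c.x m)) • E'
    rw [← Semi.extR_smul, c.r_res c' h _ (Ch.d_top c _ (Submodule.smul_mem _ _ (Ch.psi c s hs η).2)), Ch.psi_spec,
      Semi.extR_smul, hss]

variable (s : Coh.toAb (Coh.structureModule X) ⟶ Coh.toAb (Coh.structureModule X))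
  (hlin : ∀ (U : X.Opens) (a b : Γ(X, U)),
      s.hom.app (op U) (a ^ p * b) = a * @id Γ(X, U) (s.hom.app (op U) b))

/-- the components -/
noncomputable def sV (V : X.Opens) : Γ(X, V) →+ Γ(X, V) := (s.hom.app (op V)).hom

theorem sV_res (h : W ≤ V) (a : Γ(X, V)) : sV s W (rO h a) = rO h (sV s V a) :=
  ConcreteCategory.congr_hom (s.hom.naturality (homOfLE h).op) a

/-- the endomorphism of the top term -/
noncomputable def Psi : D.K.X n ⟶ D.K.X n :=
  BasisIso.hom hB (fun V => (sec D n (chart p δ n V).U).toAddMonoidHom.comp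
      ((Ch.psi (chart p δ n V) (sV s V.1) (hlin V.1)).comp (sec D n (chart p δ n V).U).symm.toAddMonoidHom))
    (fun V W g x => by
      have h : W.1 ≤ V.1 := g.le
      have hg : g = homOfLE h := Subsingleton.elim _ _
      subst hg
      obtain ⟨Y, rfl⟩ := (sec D n (chart p δ n V).U).surjective x
      have h2 := sec_res D n (chart p δ n V).U (chart p δ n W).U h Y
      have h3 := sec_res D n (chart p δ n V).U (chart p δ n W).U h (Ch.psi (chart p δ n V) (sV s V.1) (hlin V.1) Y)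
      change sec D n (chart p δ n W).U (Ch.psi (chart p δ n W) (sV s W.1) (hlin W.1)
        ((sec D n (chart p δ n W).U).symm ((D.K.X n).obj.map (homOfLE h).op (sec D n (chart p δ n V).U Y)))) =
        (D.K.X n).obj.map (homOfLE h).op (sec D n (chart p δ n V).U (Ch.psi (chart p δ n V) (sV s V.1) (hlin V.1)
          ((sec D n (chart p δ n V).U).symm (sec D n (chart p δ n V).U Y))))
      have e1 : (sec D n (chart p δ n V).U).symm (sec D n (chart p δ n V).U Y) = Y := AddEquiv.symm_apply_apply _ _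
      rw [e1]
      refine Eq.trans ?_ h3.symm
      congr 1
      refine Eq.trans (congrArg (Ch.psi (chart p δ n W) (sV s W.1) (hlin W.1))
        ((congrArg (sec D n (chart p δ n W).U).symm h2).trans (AddEquiv.symm_apply_apply _ _))) ?_
      refine Subtype.ext ?_
      exact (Ch.psi_res (chart p δ n V) (chart p δ n W) h (sV s V.1) (hlin V.1) (sV s W.1) (hlin W.1) (sV_res s h) Y).symm)

theorem Psi_app (V : chs p δ n) (Y : ↥(⋀[Γ(X, V.1)]^n Γ(Ω', V.1))) :
    (Psi hB D s hlin).hom.app (op V.1) (sec D n (chart p δ n V).U Y) =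
      sec D n (chart p δ n V).U (Ch.psi (chart p δ n V) (sV s V.1) (hlin V.1) Y) := by
  refine (hom_app hB _ _ V _).trans ?_
  change sec D n (chart p δ n V).U (Ch.psi (chart p δ n V) (sV s V.1) (hlin V.1)
    ((sec D n (chart p δ n V).U).symm (sec D n (chart p δ n V).U Y))) = _
  have e1 : (sec D n (chart p δ n V).U).symm (sec D n (chart p δ n V).U Y) = Y := AddEquiv.symm_apply_apply _ _
  rw [e1]

theorem sV_one (φ : Coh.toAb (Coh.structureModule X) ⟶ Coh.toAb (Coh.structureModule X))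
    (hφ : ∀ (U : X.Opens) (t : Γ(X, U)), φ.hom.app (op U) t = t ^ p) (hs : φ ≫ s = 𝟙 _) (V : X.Opens) :
    sV s V 1 = 1 := by
  have h1 : s.hom.app (op V) (φ.hom.app (op V) (1 : Γ(X, V))) = (1 : Γ(X, V)) :=
    congr($(hs).hom.app (op V) (1 : Γ(X, V)))
  rw [hφ V 1, one_pow] at h1
  exact h1

theorem Psi_C (φ : Coh.toAb (Coh.structureModule X) ⟶ Coh.toAb (Coh.structureModule X))
    (hφ : ∀ (U : X.Opens) (t : Γ(X, U)), φ.hom.app (op U) t = t ^ p) (hs : φ ≫ s = 𝟙 _)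
    (hd : 𝟙 (D.K.X n) ≫ D.K.d n (n + 1) = 0) :
    Psi hB D s hlin ≫ D.K.liftCycles (𝟙 (D.K.X n)) (n + 1) (CochainComplex.next ℕ n) hd ≫
      D.K.homologyπ n ≫ (C hB D n).hom = 𝟙 _ := by
  refine hom_ext hB fun V hV y => ?_
  obtain ⟨Y, rfl⟩ := (sec D n (chart p δ n ⟨V, hV⟩).U).surjective y
  have e0 := Psi_app hB D s hlin ⟨V, hV⟩ Y
  have e1 := C_app hB D n ⟨V, hV⟩ ((D.K.liftCycles (𝟙 (D.K.X n)) (n + 1) (CochainComplex.next ℕ n) hd).hom.app (op V)
    ((Psi hB D s hlin).hom.app (op V) (sec D n (chart p δ n ⟨V, hV⟩).U Y)))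
  refine e1.trans ?_
  have e2 : (D.K.iCycles n).hom.app (op V) ((D.K.liftCycles (𝟙 (D.K.X n)) (n + 1) (CochainComplex.next ℕ n)
      hd).hom.app (op V) ((Psi hB D s hlin).hom.app (op V) (sec D n (chart p δ n ⟨V, hV⟩).U Y))) =
      (Psi hB D s hlin).hom.app (op V) (sec D n (chart p δ n ⟨V, hV⟩).U Y) :=
    congr($(D.K.liftCycles_i (𝟙 (D.K.X n)) (n + 1) (CochainComplex.next ℕ n) hd).hom.app (op V)
      ((Psi hB D s hlin).hom.app (op V) (sec D n (chart p δ n ⟨V, hV⟩).U Y)))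
  refine (congrArg ((chart p δ n ⟨V, hV⟩).rS D n) (e2.trans e0)).trans ?_
  refine ((chart p δ n ⟨V, hV⟩).rS_sec D n _).trans ?_
  change sec D n (chart p δ n ⟨V, hV⟩).U _ = sec D n (chart p δ n ⟨V, hV⟩).U Y
  congr 1
  apply Subtype.ext
  have e3 := Ch.psi_spec (chart p δ n ⟨V, hV⟩) (sV s V) (hlin V) Y 1
  rw [one_smul, sV_one s φ hφ hs V, one_smul] at e3
  exact e3

end top

end K173.GeoTop
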