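import Groth.Agent.Sga4B.DTrunc
import Groth.Agent.DelIll.K905.Decomp
import Groth.Agent.DelIll.K905.HTExact

/-!
# Surjectivity onto the cohomology sheaves from decomposability of short truncations

`Y` an object of `D^{[0, p + 1]}(A)` such that `τ_{≥ q+1-p} τ_{≤ q} Y` is decomposable for every `q`, `T` a test object in
degrees `≤ 0`.  If `H^n(T, τ_{≤ 0} Y) → H^n(T, Y)` is injective, `H^{p+1}(T, Y) → H^{p+1}(T, τ_{≥ p+1} Y)` is surjective and
`H^n(T, H^1(Y))` vanishes for `n > p + 1`, then `H^n(T, τ_{≤ b} Y) → H^n(T, H^b(Y)[-b])` is surjective for all `n`, `b`.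
-/

set_option autoImplicit false
universe w v u
open CategoryTheory CategoryTheory.Limits CategoryTheory.Pretriangulated DerivedCategory

namespace K173.Split

open Groth.Agent.Sga4B.DTrunc DerivedCategory.TStructure

variable {A : Type u} [Category.{v} A] [Abelian A] [HasDerivedCategory.{w} A]

/-- A morphism from a decomposable object to the heart in the top degree is split. -/
theorem exists_section (a b : ℤ) (hab : a ≤ b) (M : Finset.Icc a b → A) (W V : DerivedCategory A)
    (e : W ≅ ⨁ (fun j : Finset.Icc a b => (singleFunctor A j.1).obj (M j))) (g : W ⟶ V)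
    [V.IsGE b] [V.IsLE b] (hg : IsIso ((homologyFunctor A b).map g)) :
    ∃ s : V ⟶ W, s ≫ g = 𝟙 V := by
  let Y : Finset.Icc a b → DerivedCategory A := fun j => (singleFunctor A j.1).obj (M j)
  let i : Finset.Icc a b := ⟨b, Finset.mem_Icc.2 ⟨hab, le_rfl⟩⟩
  let f : (singleFunctor A b).obj (M i) ⟶ W := biproduct.ι Y i ≫ e.inv
  have h1 : IsIso ((homologyFunctor A b).map (biproduct.ι Y i)) := by
    refine K905.Decomp.isIso_map_ι _ Y i fun j hj => ?_
    have hj1 : j.1 ≤ b := (Finset.mem_Icc.1 j.2).2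
    have hj2 : j.1 ≠ b := fun h => hj (Subtype.ext h)
    exact isZero_of_isLE _ j.1 b (by omega)
  have h2 : IsIso ((homologyFunctor A b).map f) := by
    rw [Functor.map_comp]
    infer_instance
  have h3 : IsIso (f ≫ g) := by
    refine isIso_of_heart b (f ≫ g) ?_
    rw [Functor.map_comp]
    infer_instance
  exact ⟨inv (f ≫ g) ≫ f, by rw [Category.assoc, IsIso.inv_hom_id]⟩

section shift

variable {C : Type*} [Category C] [HasShift C ℤ]

/-- `x ↦ x ≫ f⟦n⟧`. -/
abbrev pf {T Z Z' : C} (n : ℤ) (f : Z ⟶ Z') (x : T ⟶ Z⟦n⟧) : T ⟶ Z'⟦n⟧ := x ≫ f⟦n⟧'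

theorem pf_comp {T Z Z' Z'' : C} (n : ℤ) (f : Z ⟶ Z') (g : Z' ⟶ Z'') (x : T ⟶ Z⟦n⟧) :
    pf n (f ≫ g) x = pf n g (pf n f x) := by
  simp [pf]

theorem surjective_pf_of_section {T Z Z' : C} (n : ℤ) (f : Z ⟶ Z') (s : Z' ⟶ Z) (h : s ≫ f = 𝟙 Z') :
    Function.Surjective (pf (T := T) n f) := fun x => ⟨pf n s x, by
  rw [← pf_comp, h]; simp [pf]⟩

theorem surjective_pf_of_comp {T Z Z' Z'' : C} (n : ℤ) (f : Z ⟶ Z') (g : Z' ⟶ Z'')
    (h : Function.Surjective (pf (T := T) n (f ≫ g))) : Function.Surjective (pf (T := T) n g) := fun x => by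
  obtain ⟨y, hy⟩ := h x
  exact ⟨pf n f y, by rw [← pf_comp]; exact hy⟩

theorem surjective_pf_comp {T Z Z' Z'' : C} (n : ℤ) (f : Z ⟶ Z') (g : Z' ⟶ Z'')
    (h : Function.Surjective (pf (T := T) n f)) (h' : Function.Surjective (pf (T := T) n g)) :
    Function.Surjective (pf (T := T) n (f ≫ g)) := fun x => by
  obtain ⟨y, hy⟩ := h' x
  obtain ⟨z, hz⟩ := h y
  exact ⟨z, by rw [pf_comp, hz, hy]⟩

theorem injective_pf_of_comp {T Z Z' Z'' : C} (n : ℤ) (f : Z ⟶ Z') (g : Z' ⟶ Z'')
    (h : Function.Injective (pf (T := T) n (f ≫ g))) : Function.Injective (pf (T := T) n f) := fun x y hxy => by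
  apply h
  rw [pf_comp, pf_comp, hxy]

theorem injective_pf_comp {T Z Z' Z'' : C} (n : ℤ) (f : Z ⟶ Z') (g : Z' ⟶ Z'')
    (h : Function.Injective (pf (T := T) n f)) (h' : Function.Injective (pf (T := T) n g)) :
    Function.Injective (pf (T := T) n (f ≫ g)) := fun x y hxy => by
  rw [pf_comp, pf_comp] at hxy
  exact h (h' hxy)

theorem injective_pf_of_isIso {T Z Z' : C} (n : ℤ) (f : Z ⟶ Z') [IsIso f] :
    Function.Injective (pf (T := T) n f) := fun x y hxy => (cancel_mono _).1 hxy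

theorem surjective_pf_of_isIso {T Z Z' : C} (n : ℤ) (f : Z ⟶ Z') [IsIso f] :
    Function.Surjective (pf (T := T) n f) :=
  surjective_pf_of_section n f (inv f) (IsIso.inv_hom_id f)

end shift

theorem subsingleton_of_isGE (T Z : DerivedCategory A) [hT : T.IsLE 0] (b n : ℤ) [hZ : Z.IsGE b] (h : n < b) :
    Subsingleton (T ⟶ Z⟦n⟧) := by
  have hT' : t.IsLE T 0 := hT
  have hZ' : t.IsGE Z b := hZ
  have h2 : t.IsGE (Z⟦n⟧) (b - n) := t.isGE_shift _ b n (b - n) (by omega)
  refine ⟨fun x y => ?_⟩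
  rw [t.zero x 0 (b - n) (by omega), t.zero y 0 (b - n) (by omega)]

variable (T Y : DerivedCategory A)

/-- `H^n(P b) → H^n(τ_{≥ 1} P b)` is surjective. -/
theorem surj_one (b n : ℤ) (hb : 0 ≤ b)
    (hinj : ∀ n : ℤ, Function.Injective (pf (T := T) n ((t.truncLEι 0).app Y))) :
    Function.Surjective (pf (T := T) n ((t.truncGEπ 1).app ((t.truncLE b).obj Y))) := by
  intro x
  have hT := t.triangleLEGE_distinguished 0 1 (by norm_num) ((t.truncLE b).obj Y)
  have hinj' : Function.Injective (pf (T := T) (n + 1) ((t.truncLEι 0).app ((t.truncLE b).obj Y))) := by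
    apply injective_pf_of_comp (n + 1) _ ((t.truncLEι b).app Y)
    have h1 : (t.truncLEι 0).app ((t.truncLE b).obj Y) ≫ (t.truncLEι b).app Y =
        (t.truncLE 0).map ((t.truncLEι b).app Y) ≫ (t.truncLEι 0).app Y :=
      ((t.truncLEι 0).naturality ((t.truncLEι b).app Y)).symm
    rw [h1]
    have := t.isIso_truncLE_map_truncLEι_app 0 b hb Y
    exact injective_pf_comp _ _ _ (injective_pf_of_isIso _ _) (hinj _)
  refine K905.HTExact.con_exact₃ hT n (n + 1) rfl x ?_
  apply hinj'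
  have h2 := K905.HTExact.map_con hT n (n + 1) rfl x
  refine h2.trans ?_
  exact zero_comp.symm

/-- **Surjectivity.** -/
theorem surj [hT0 : T.IsLE 0] (p : ℤ) (hp : 1 ≤ p) [hY0 : Y.IsGE 0]
    (hdec : ∀ q : ℤ, q ≤ p + 1 → ∃ M : Finset.Icc (q + 1 - p) q → A, Nonempty ((t.truncGELE (q + 1 - p) q).obj Y ≅
      ⨁ (fun j : Finset.Icc (q + 1 - p) q => (singleFunctor A j.1).obj (M j))))
    (hinj : ∀ n : ℤ, Function.Injective (pf (T := T) n ((t.truncLEι 0).app Y)))
    (hsurj : Function.Surjective (pf (T := T) (p + 1) ((t.truncGEπ (p + 1)).app ((t.truncLE (p + 1)).obj Y))))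
    (hvan : ∀ n : ℤ, p + 1 < n → ∀ Z : DerivedCategory A, Z.IsGE 1 → Z.IsLE 1 → Subsingleton (T ⟶ Z⟦n + 1⟧))
    (b n : ℤ) (hb : b ≤ p + 1) (V : DerivedCategory A) [hV : V.IsGE b] [hV' : V.IsLE b] (g : (t.truncLE b).obj Y ⟶ V)
    (hg : IsIso ((homologyFunctor A b).map g)) : Function.Surjective (pf (T := T) n g) := by
  have hVt : t.IsGE V b := hV
  have hYt : t.IsGE Y 0 := hY0
  have iP : ((t.truncLE b).obj Y).IsLE b := (inferInstance : t.IsLE ((t.truncLE b).obj Y) b)
  have iP0 : t.IsGE ((t.truncLE b).obj Y) 0 := inferInstance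
  rcases lt_or_ge b 0 with h0 | h0
  · -- everything vanishes
    have h1 : IsZero V := by
      have h2 : IsZero ((homologyFunctor A b).obj V) := by
        have h3 : IsZero ((homologyFunctor A b).obj ((t.truncLE b).obj Y)) := by
          have : ((t.truncLE b).obj Y).IsGE 0 := iP0
          exact isZero_of_isGE _ 0 b h0
        exact h3.of_iso (asIso ((homologyFunctor A b).map g)).symm
      rw [IsZero.iff_id_eq_zero]
      exact (bij_heart b V V).1 (h2.eq_of_src _ _)
    intro x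
    exact ⟨0, (Functor.map_isZero _ h1 : IsZero (V⟦n⟧)).eq_of_tgt _ _⟩
  -- the factorization through `τ_{≥ a}`, `a ≤ b`
  have hdecomp : ∀ a : ℤ, a = b + 1 - p → ∀ g' : (t.truncGE a).obj ((t.truncLE b).obj Y) ⟶ V,
      (t.truncGEπ a).app ((t.truncLE b).obj Y) ≫ g' = g → Function.Surjective (pf (T := T) n g') := by
    rintro a rfl g' hg'
    obtain ⟨M, ⟨e⟩⟩ := hdec b hb
    have h1 : IsIso ((homologyFunctor A b).map g') := by
      have h2 := isIso_homology_truncGE (b + 1 - p) b (by omega) ((t.truncLE b).obj Y)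
      have h3 : IsIso ((homologyFunctor A b).map ((t.truncGEπ (b + 1 - p)).app ((t.truncLE b).obj Y)) ≫
          (homologyFunctor A b).map g') := by
        rw [← Functor.map_comp, hg']
        exact hg
      exact IsIso.of_isIso_comp_left ((homologyFunctor A b).map ((t.truncGEπ (b + 1 - p)).app ((t.truncLE b).obj Y))) _
    obtain ⟨s, hs⟩ := exists_section (b + 1 - p) b (by omega) M _ V e g' h1
    exact surjective_pf_of_section n g' s hs
  rcases lt_or_ge b p with hbp | hbp
  · -- `b + 1 - p ≤ 0`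
    have h1 : t.IsGE ((t.truncLE b).obj Y) (b + 1 - p) := t.isGE_of_ge _ (b + 1 - p) 0 (by omega)
    have h2 : IsIso ((t.truncGEπ (b + 1 - p)).app ((t.truncLE b).obj Y)) := inferInstance
    have h3 := hdecomp _ rfl (inv ((t.truncGEπ (b + 1 - p)).app ((t.truncLE b).obj Y)) ≫ g) (by simp)
    have h4 : g = (t.truncGEπ (b + 1 - p)).app ((t.truncLE b).obj Y) ≫
      (inv ((t.truncGEπ (b + 1 - p)).app ((t.truncLE b).obj Y)) ≫ g) := by simp
    rw [h4]
    exact surjective_pf_comp n _ _ (surjective_pf_of_isIso n _) h3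
  have hs1 := surj_one T Y b n h0 hinj
  have hV1 : t.IsGE V 1 := t.isGE_of_ge _ 1 b (by omega)
  have e1 : (t.truncGEπ 1).app ((t.truncLE b).obj Y) ≫ t.descTruncGE g 1 = g := t.π_descTruncGE g 1
  rcases eq_or_lt_of_le hbp with hbp | hbp
  · -- `b = p`
    rw [← e1]
    refine surjective_pf_comp n _ _ hs1 (hdecomp 1 (by omega) _ e1)
  -- `b = p + 1`
  obtain rfl : b = p + 1 := by omega
  rcases lt_trichotomy n (p + 1) with hn | hn | hn
  · have := subsingleton_of_isGE T V (p + 1) n hn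
    intro x
    exact ⟨0, Subsingleton.elim _ _⟩
  · subst hn
    have e2 : (t.truncGEπ (p + 1)).app ((t.truncLE (p + 1)).obj Y) ≫ t.descTruncGE g (p + 1) = g :=
      t.π_descTruncGE g (p + 1)
    rw [← e2]
    refine surjective_pf_comp _ _ _ hsurj ?_
    have i1 : ((t.truncGE (p + 1)).obj ((t.truncLE (p + 1)).obj Y)).IsGE (p + 1) :=
      (inferInstance : t.IsGE ((t.truncGE (p + 1)).obj ((t.truncLE (p + 1)).obj Y)) (p + 1))
    have i0 : t.IsLE ((t.truncLE (p + 1)).obj Y) (p + 1) := inferInstance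
    have i2 : ((t.truncGE (p + 1)).obj ((t.truncLE (p + 1)).obj Y)).IsLE (p + 1) :=
      (inferInstance : t.IsLE ((t.truncGE (p + 1)).obj ((t.truncLE (p + 1)).obj Y)) (p + 1))
    have h3 : IsIso (t.descTruncGE g (p + 1)) := by
      refine isIso_of_heart (p + 1) _ ?_
      have h2 := isIso_homology_truncGE (p + 1) (p + 1) le_rfl ((t.truncLE (p + 1)).obj Y)
      have h4 : IsIso ((homologyFunctor A (p + 1)).map ((t.truncGEπ (p + 1)).app ((t.truncLE (p + 1)).obj Y)) ≫
          (homologyFunctor A (p + 1)).map (t.descTruncGE g (p + 1))) := by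
        rw [← Functor.map_comp, e2]
        exact hg
      exact IsIso.of_isIso_comp_left
        ((homologyFunctor A (p + 1)).map ((t.truncGEπ (p + 1)).app ((t.truncLE (p + 1)).obj Y))) _
    exact surjective_pf_of_isIso _ _
  · -- `n > p + 1`
    let Z := (t.truncGE 1).obj ((t.truncLE (p + 1)).obj Y)
    have iZ : Z.IsGE 1 := (inferInstance : t.IsGE Z 1)
    obtain ⟨δ, hδ⟩ := exists_distinguished_ι 1 2 (by norm_num) Z
    -- `Z → τ_{≥ 2} Z` is surjective on `H^n`
    have s2 : Function.Surjective (pf (T := T) n ((t.truncGEπ 2).app Z)) := by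
      intro x
      refine K905.HTExact.con_exact₃ hδ n (n + 1) rfl x ?_
      have := hvan n hn ((singleFunctor A 1).obj ((homologyFunctor A 1).obj Z)) inferInstance inferInstance
      exact Subsingleton.elim _ _
    have hV2 : t.IsGE V 2 := t.isGE_of_ge _ 2 (p + 1) (by omega)
    have e3 : (t.truncGEπ 2).app Z ≫ t.descTruncGE (t.descTruncGE g 1) 2 = t.descTruncGE g 1 := t.π_descTruncGE _ 2
    -- compare `τ_{≥ 2} τ_{≥ 1} P` with `τ_{≥ 2} P`
    have hi : IsIso ((t.truncGE 2).map ((t.truncGEπ 1).app ((t.truncLE (p + 1)).obj Y))) :=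
      t.isIso_truncGE_map_truncGEπ_app 2 1 (by norm_num) _
    have s3 := hdecomp 2 (by omega)
      ((t.truncGE 2).map ((t.truncGEπ 1).app ((t.truncLE (p + 1)).obj Y)) ≫ t.descTruncGE (t.descTruncGE g 1) 2) (by
        have h5 : (t.truncGEπ 2).app ((t.truncLE (p + 1)).obj Y) ≫
          (t.truncGE 2).map ((t.truncGEπ 1).app ((t.truncLE (p + 1)).obj Y)) =
          (t.truncGEπ 1).app ((t.truncLE (p + 1)).obj Y) ≫ (t.truncGEπ 2).app Z :=
          ((t.truncGEπ 2).naturality _).symm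
        rw [← Category.assoc, h5, Category.assoc, e3, e1])
    have s4 := surjective_pf_of_comp n _ _ s3
    rw [← e1, ← e3]
    exact surjective_pf_comp n _ _ hs1 (surjective_pf_comp n _ _ s2 s4)

end K173.Split
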